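import Cfsg.Agent.Lib.Recog.Walter.List
import Cfsg.Prelude.Def_LocalEven

/-!
Owner: helper6. The two inputs of the classification of simple groups not involving the symmetric group
of degree three.
-/

set_option autoImplicit false

namespace CfsgLib.SThreeFree

open Subgroup

universe u

/-- The statement of Goldschmidt's theorem (S1169). -/
def GoldschmidtInput : Prop :=
  ∀ (G : Type u) [Group G] [Finite G] [IsSimpleGroup G] (S : Sylow 2 G) (A : Subgroup G), A ≠ ⊥ →
    IsMulCommutative A → Cfsg.IsStronglyClosed A (S : Subgroup G) →
    IsMulCommutative (S : Subgroup G) ∨ ∃ H : Subgroup G, Cfsg.IsStronglyEmbedded H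

/-- The classification of simple groups not involving the symmetric group of degree three. -/
def Classification : Prop :=
  ∀ (G : Type u) [Group G] [Finite G], IsSimpleGroup G → ¬ IsMulCommutative G →
    ¬ Cfsg.Involves (Equiv.Perm (Fin 3)) G → Cfsg.IsSuzukiOrPSL2OddPowerThree G

end CfsgLib.SThreeFree
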