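import Cfsg.Agent.Lib.SThreeFree.FixedAut
import Cfsg.Agent.Lib.Core.Nilpotent

/-!
Owner: helper6. A group of operators of a simple group of the classification, nilpotent modulo a normal
subgroup of coprime order, fixes a non-trivial element.
-/

set_option autoImplicit false
set_option linter.style.haveILetI false

namespace CfsgLib.SThreeFree

open Subgroup

universe u v

theorem exists_common_fixed {L : Type u} [Group L] [Finite L] (hz : center L = ⊥) (hL : HasSmallAut L)
    {B : Type v} [Group B] [Finite B] (ψ : B →* MulAut L) (K : Subgroup B) [K.Normal]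
    (hcop : (Nat.card K).Coprime (Nat.card L)) (hnil : Group.IsNilpotent (B ⧸ K)) :
    ∃ x : L, x ≠ 1 ∧ ∀ b, ψ b x = x := by
  haveI : Finite (MulAut L) := Finite.of_injective _ MulEquiv.toEquiv_injective
  by_cases hI : ψ.range ⊓ Cfsg.Inn L = ⊥
  · haveI := hL.2 _ hI
    obtain ⟨⟨γ, hγ⟩, hgen⟩ := IsCyclic.exists_generator (α := ψ.range)
    obtain ⟨x, hx, hfix⟩ := hL.1 γ
    refine ⟨x, hx, fun b => ?_⟩
    have hle : zpowers γ ≤ MulAction.stabilizer (MulAut L) x := zpowers_le.2 hfix
    refine hle ?_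
    obtain ⟨k, hk⟩ := hgen ⟨ψ b, b, rfl⟩
    exact ⟨k, congrArg Subtype.val hk⟩
  set Kb := K.map ψ.rangeRestrict with hKb
  haveI : Kb.Normal := Subgroup.Normal.map inferInstance _ ψ.rangeRestrict_surjective
  set Ib := (Cfsg.Inn L).subgroupOf ψ.range with hIb
  haveI : Ib.Normal := Subgroup.normal_subgroupOf
  have hdisj : Kb ⊓ Ib = ⊥ := by
    refine inf_eq_bot_of_coprime ?_
    refine Nat.Coprime.coprime_dvd_left (card_map_dvd K ψ.rangeRestrict) (hcop.coprime_dvd_right ?_)
    refine (Subgroup.card_dvd_of_injective (f := (ψ.range.subtype.comp Ib.subtype).codRestrict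
      (Cfsg.Inn L) fun i => i.2) fun a b h => Subtype.ext (Subtype.ext (Subtype.ext_iff.1 h :))).trans ?_
    exact card_range_dvd (MulAut.conj : L →* MulAut L)
  set q := QuotientGroup.mk' Kb with hq
  haveI : Group.IsNilpotent (ψ.range ⧸ Kb) := by
    refine Group.nilpotent_of_surjective (QuotientGroup.map K Kb ψ.rangeRestrict fun k hk => ⟨k, hk, rfl⟩) ?_
    intro y
    obtain ⟨y, rfl⟩ := QuotientGroup.mk'_surjective _ y
    obtain ⟨b, rfl⟩ := ψ.rangeRestrict_surjective y
    exact ⟨QuotientGroup.mk b, rfl⟩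
  haveI : (Ib.map q).Normal := Subgroup.Normal.map inferInstance _ (QuotientGroup.mk'_surjective _)
  have hne : Ib.map q ≠ ⊥ := by
    rw [Ne, Subgroup.map_eq_bot_iff, hq, QuotientGroup.ker_mk']
    intro hle
    refine hI (eq_bot_iff.2 fun x hx => ?_)
    have h : (⟨x, hx.1⟩ : ψ.range) ∈ Kb ⊓ Ib := ⟨hle (mem_subgroupOf.2 hx.2), mem_subgroupOf.2 hx.2⟩
    rw [hdisj, mem_bot] at h
    exact congrArg Subtype.val h
  obtain ⟨⟨z, hz1⟩, hzne⟩ := (Subgroup.ne_bot_iff_exists_ne_one).1
    (CfsgLib.Core.inf_center_ne_bot_of_isNilpotent (Ib.map q) hne)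
  obtain ⟨⟨i, hi, rfl⟩, hzc⟩ := hz1
  have hcen : ∀ y : ψ.range, y * i = i * y := by
    intro y
    have h1 : y * i * y⁻¹ * i⁻¹ ∈ Kb ⊓ Ib := by
      refine ⟨(QuotientGroup.eq_one_iff _).1 ?_, Ib.mul_mem (Subgroup.Normal.conj_mem inferInstance i hi y)
        (Ib.inv_mem hi)⟩
      show q (y * i * y⁻¹ * i⁻¹) = 1
      rw [map_mul, map_mul, map_mul, map_inv, map_inv, mem_center_iff.1 hzc (q y), mul_inv_cancel_right,
        mul_inv_cancel]
    rw [hdisj, mem_bot, mul_inv_eq_one, mul_inv_eq_iff_eq_mul] at h1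
    exact h1
  obtain ⟨l, hl⟩ := mem_subgroupOf.1 hi
  refine ⟨l, fun h1 => hzne ?_, fun b => ?_⟩
  · have hi1 : i = 1 := Subtype.ext (by rw [← hl, h1, map_one]; rfl)
    exact Subtype.ext (by show q i = 1; rw [hi1, map_one])
  · have hb := congrArg Subtype.val (hcen ⟨ψ b, b, rfl⟩)
    simp only [coe_mul, ← hl] at hb
    have hconj : MulAut.conj (ψ b l) = MulAut.conj l := by
      have e1 : ψ b * MulAut.conj l = MulAut.conj (ψ b l) * ψ b := by
        refine MulEquiv.ext fun z => ?_
        simp [MulAut.mul_apply, MulAut.conj_apply]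
      exact mul_right_cancel (e1.symm.trans hb)
    have h2 : l⁻¹ * ψ b l ∈ center L := by
      rw [mem_center_iff]
      intro z
      have := congrArg (fun f : MulAut L => f z) hconj
      simp only [MulAut.conj_apply] at this
      have h3 := congrArg (fun w => l⁻¹ * w * ψ b l) this
      simp only [mul_assoc, inv_mul_cancel, mul_one, inv_mul_cancel_left] at h3
      simpa [mul_assoc] using h3.symm
    rw [hz, mem_bot, inv_mul_eq_one] at h2
    exact h2.symm

end CfsgLib.SThreeFree
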