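import Cfsg.Agent.Lib.SThreeFree.Real
import Cfsg.Agent.Lib.GW.DGroup.Outer
import Cfsg.Agent.Lib.Known.SL2Multiplier
import Cfsg.Agent.Lib.Schur.CentralLift
import Cfsg.Agent.Lib.Classical.PSLTwoSimple
import Cfsg.Agent.Lib.Classical.SmallIso
import Cfsg.Agent.Lib.CharDegree.RealKernel

/-!
Owner: helper6. `PSL(2, 3 ^ (2n+1))` inside groups not involving the symmetric group of degree three.
-/

set_option autoImplicit false
set_option linter.style.haveILetI false

namespace CfsgLib.SThreeFree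

open Subgroup
open scoped commutatorElement
open CfsgLib.Known.AutPSL

universe u

/-- `PSL(2, 3 ^ (2n+1))` with `n ≥ 1`. -/
def IsOddThree (K : Type u) [Group K] : Prop :=
  ∃ (F : Type) (_ : Field F) (_ : Fintype F) (n : ℕ), 1 ≤ n ∧ Fintype.card F = 3 ^ (2 * n + 1) ∧
    Nonempty (K ≃* Matrix.ProjectiveSpecialLinearGroup (Fin 2) F)

theorem four_le_card {F : Type} [Field F] [Fintype F] {n : ℕ} (hn : 1 ≤ n)
    (hF : Fintype.card F = 3 ^ (2 * n + 1)) : 4 ≤ Fintype.card F ∧ (2 : F) ≠ 0 ∧ Fintype.card F ≠ 9 := by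
  haveI : Fact (Nat.Prime 3) := ⟨Nat.prime_three⟩
  haveI : CharP F 3 := charP_of_card_eq_prime_pow hF
  have h27 : 27 ≤ 3 ^ (2 * n + 1) := by
    calc (27 : ℕ) = 3 ^ 3 := by norm_num
      _ ≤ _ := Nat.pow_le_pow_right (by norm_num) (by omega)
  refine ⟨by omega, fun h => ?_, by omega⟩
  have h2 : ((2 : ℕ) : F) = 0 := by exact_mod_cast h
  rw [CharP.cast_eq_zero_iff F 3] at h2
  omega

/-- A 2-element of a group without the symmetric group of degree three centralises the 3-subgroups it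
normalises. -/
theorem mem_centralizer_of_two_element {G : Type u} [Group G] [Finite G]
    (h3 : ¬ Cfsg.Involves (Equiv.Perm (Fin 3)) G) {P : Subgroup G} (hP : IsPGroup 3 P) {g : G}
    (hg : ∃ k : ℕ, orderOf g = 2 ^ k) (hgP : g ∈ normalizer (P : Set G)) :
    g ∈ centralizer (P : Set G) := by
  haveI : Fact (Nat.Prime 3) := ⟨Nat.prime_three⟩
  by_contra hgc
  set X := normalizer (P : Set G) with hX
  haveI : (P.subgroupOf X).Normal := normal_subgroupOf_iff_le_normalizer le_normalizer |>.2 le_rfl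
  obtain ⟨k, hk⟩ := hg
  obtain ⟨x, hx, hx1, hc⟩ := CharDegree.RealKernel.exists_inverted (P.subgroupOf X) (g := ⟨g, hgP⟩) (k := k)
    (by rw [← orderOf_coe]; exact hk) (by
      intro hmem
      refine hgc (mem_centralizer_iff.2 fun y hy => ?_)
      exact congrArg Subtype.val (mem_centralizer_iff.1 hmem ⟨y, le_normalizer hy⟩ hy))
  obtain ⟨t, ht⟩ := isConj_iff.1 hc
  obtain ⟨j, hj⟩ := IsPGroup.iff_orderOf.1 hP ⟨(x : G), hx⟩
  replace hj : orderOf ((x : X) : G) = 3 ^ j := by rw [← hj, ← orderOf_coe]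
  obtain ⟨y, hy, hyc, -⟩ := exists_real_of_inverted hj (fun e => hx1 (Subtype.ext e))
    (congrArg Subtype.val ht)
  exact h3 (involves_three_iff.2 ⟨y, hy, hyc⟩)

variable {F : Type} [Field F] [Fintype F]

/-- The diagonal element of determinant `-1`. -/
noncomputable def diagNeg : GL (Fin 2) F :=
  Matrix.GeneralLinearGroup.mkOfDetNeZero !![-1, 0; 0, 1] (by simp [Matrix.det_fin_two_of])

/-- Between `Inn` and `Aut` only `Inn` avoids the symmetric group of degree three among automorphisms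
without field component. -/
theorem mem_inn_of_fld {n : ℕ} (hn : 1 ≤ n) (hF : Fintype.card F = 3 ^ (2 * n + 1))
    {X : Subgroup (MulAut (PSL 2 F))} (hI : Cfsg.Inn (PSL 2 F) ≤ X)
    (h3 : ¬ Cfsg.Involves (Equiv.Perm (Fin 3)) X) {α : MulAut (PSL 2 F)} (hα : α ∈ X)
    (hf : GW.KFactsProof.fld α = 1) : α ∈ Cfsg.Inn (PSL 2 F) := by
  by_contra hout
  obtain ⟨h4, h2, -⟩ := four_le_card hn hF
  haveI : Fact (Nat.Prime 3) := ⟨Nat.prime_three⟩
  haveI : CharP F 3 := charP_of_card_eq_prime_pow hF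
  have hle := GW.DGroup.range_innDiag_le h2 hI hα hf hout
  let a : MulAut (PSL 2 F) := innDiag 2 F diagNeg
  let u : SL 2 F := ⟨!![1, 1; 0, 1], by simp [Matrix.det_fin_two_of]⟩
  let y : MulAut (PSL 2 F) := MulAut.conj (proj 2 F u)
  haveI : Finite (MulAut (PSL 2 F)) := Finite.of_injective _ MulEquiv.toEquiv_injective
  have hau : a (proj 2 F u) = (proj 2 F u)⁻¹ := by
    show innDiag 2 F diagNeg (proj 2 F u) = _
    rw [innDiag_apply, semilin_proj, ← map_inv]
    refine congrArg _ (Subtype.ext ?_)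
    rw [coe_slConjHom, Matrix.SpecialLinearGroup.coe_inv, Matrix.coe_units_inv]
    rw [Matrix.inv_def]
    ext i j
    fin_cases i <;> fin_cases j <;>
      simp [u, diagNeg, Matrix.mul_apply, Fin.sum_univ_two, Matrix.adjugate_fin_two,
        Matrix.det_fin_two, Matrix.SpecialLinearGroup.coe_inv]
  refine h3 (LocalEven.SFreeOffender.involves_three_of_inverted (a := (⟨a, hle ⟨_, rfl⟩⟩ : X))
    (y := ⟨y, hI ⟨_, rfl⟩⟩) ?_ ?_ ?_ ?_)
  · refine Subtype.ext ?_
    show a * a = 1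
    rw [← map_mul, innDiag_eq_one_iff le_rfl]
    refine ⟨1, ?_⟩
    ext i j
    fin_cases i <;> fin_cases j <;> simp [diagNeg, Matrix.mul_apply, Fin.sum_univ_two]
  · refine Subtype.ext ?_
    show a * MulAut.conj (proj 2 F u) * a⁻¹ = (MulAut.conj (proj 2 F u))⁻¹
    have e1 : a * MulAut.conj (proj 2 F u) * a⁻¹ = MulAut.conj (a (proj 2 F u)) := by
      refine MulEquiv.ext fun z => ?_
      simp [MulAut.mul_apply, MulAut.conj_apply]
    rw [e1, hau, map_inv]
  · refine Subtype.ext ?_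
    show MulAut.conj (proj 2 F u) ^ 3 = 1
    rw [← map_pow, ← map_pow, show u ^ 3 = 1 from ?_, map_one, map_one]
    refine Subtype.ext ?_
    rw [Matrix.SpecialLinearGroup.coe_pow]
    have h30 : (3 : F) = 0 := by exact_mod_cast CharP.cast_eq_zero F 3
    ext i j
    fin_cases i <;> fin_cases j <;>
      simp [u, pow_succ, Matrix.mul_apply, Fin.sum_univ_two]
    linear_combination h30
  · intro h
    haveI : IsSimpleGroup (PSL 2 F) := Classical.isSimpleGroup_PSL_two h4
    have h1 : proj 2 F u ∈ center (PSL 2 F) := by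
      refine mem_center_iff.2 fun z => ?_
      have := DFunLike.congr_fun (congrArg Subtype.val h) z
      exact (mul_inv_eq_iff_eq_mul.1 this).symm
    rcases IsSimpleGroup.eq_bot_or_eq_top_of_normal (center (PSL 2 F)) inferInstance with hc | hc
    · rw [hc, mem_bot, ← map_one (proj 2 F), proj_eq_iff] at h1
      obtain ⟨d, -, hd⟩ := h1
      have e0 := congrFun₂ hd 0 1
      have e1 := congrFun₂ hd 0 0
      simp [u] at e0 e1
      exact one_ne_zero (α := F) (by linear_combination e1 - e0)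
    · have := (mem_center_iff.1 (hc.ge (mem_top (proj 2 F ⟨!![1, 0; 1, 1], by
        simp [Matrix.det_fin_two_of]⟩)))) (proj 2 F u)
      change proj 2 F (u * _) = proj 2 F (_ * u) at this
      rw [proj_eq_iff] at this
      obtain ⟨d, -, hd⟩ := this
      change !![(1 : F), 0; 1, 1] * !![1, 1; 0, 1] = d • (!![(1 : F), 1; 0, 1] * !![1, 0; 1, 1]) at hd
      have e0 := congrFun₂ hd 0 1
      have e1 := congrFun₂ hd 1 0
      have e2 := congrFun₂ hd 0 0
      simp [u, Matrix.mul_apply, Fin.sum_univ_two] at e0 e1 e2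
      exact one_ne_zero (α := F) (by linear_combination 2 * e0 - e2)

/-- The field component of a 2-element is trivial. -/
theorem fld_eq_one {n : ℕ} (hF : Fintype.card F = 3 ^ (2 * n + 1)) {α : MulAut (PSL 2 F)} {k : ℕ}
    (hk : α ^ 2 ^ k = 1) : GW.KFactsProof.fld α = 1 := by
  haveI : Fact (Nat.Prime 3) := ⟨Nat.prime_three⟩
  have h1 : (GW.KFactsProof.fld α) ^ 2 ^ k = 1 := by rw [← map_pow, hk, map_one]
  have hc := (card_ringAut (F := F) hF (by omega)).1
  have h2 : orderOf (GW.KFactsProof.fld α) ∣ 2 * n + 1 := hc ▸ orderOf_dvd_natCard _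
  refine orderOf_eq_one_iff.1 (Nat.Coprime.eq_one_of_dvd ?_ (orderOf_dvd_of_pow_eq_one h1))
  exact ((Nat.coprime_two_right.2 ⟨n, rfl⟩).pow_right k).coprime_dvd_left h2

/-- A 2-element normalising such a subgroup induces an inner automorphism on it. -/
theorem exists_inner {G : Type u} [Group G] [Finite G] (h3 : ¬ Cfsg.Involves (Equiv.Perm (Fin 3)) G)
    {K : Subgroup G} (hK : IsOddThree K) {s : G} (hs : ∃ k : ℕ, s ^ 2 ^ k = 1)
    (hsK : s ∈ normalizer (K : Set G)) : ∃ l ∈ K, ∀ x ∈ K, s * x * s⁻¹ = l * x * l⁻¹ := by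
  obtain ⟨F, iF, iT, n, hn, hF, ⟨e⟩⟩ := hK
  obtain ⟨k, hk⟩ := hs
  set H := normalizer (K : Set G) with hH
  haveI : (K.subgroupOf H).Normal := normal_subgroupOf_iff_le_normalizer le_normalizer |>.2 le_rfl
  let e' : K.subgroupOf H ≃* PSL 2 F := (subgroupOfEquivOfLe le_normalizer).trans e
  let τ : H →* MulAut (PSL 2 F) := GW.KFactsProof.toAut (K.subgroupOf H) e'
  have hI : Cfsg.Inn (PSL 2 F) ≤ τ.range := by
    rintro _ ⟨z, rfl⟩
    obtain ⟨l, rfl⟩ := e'.surjective z
    exact ⟨(l : H), GW.KFactsProof.toAut_of_mem _ e' l⟩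
  have h3X : ¬ Cfsg.Involves (Equiv.Perm (Fin 3)) τ.range := fun h =>
    h3 (involves_subgroup H (involves_quotient τ.rangeRestrict τ.rangeRestrict_surjective h))
  have hk' : τ ⟨s, hsK⟩ ^ 2 ^ k = 1 := by
    rw [← map_pow, show (⟨s, hsK⟩ : H) ^ 2 ^ k = 1 from Subtype.ext hk, map_one]
  obtain ⟨z, hz⟩ := mem_inn_of_fld hn hF hI h3X ⟨⟨s, hsK⟩, rfl⟩ (fld_eq_one hF hk')
  obtain ⟨l, rfl⟩ := e'.surjective z
  rw [← GW.KFactsProof.toAut_of_mem _ e' l] at hz
  refine ⟨((l : H) : G), l.2, fun x hx => ?_⟩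
  have h1 := DFunLike.congr_fun hz (e' ⟨⟨x, le_normalizer hx⟩, hx⟩)
  change τ (l : H) _ = τ ⟨s, hsK⟩ _ at h1
  rw [GW.KFactsProof.toAut_apply, GW.KFactsProof.toAut_apply] at h1
  exact (congrArg (fun w : K.subgroupOf H => ((w : H) : G)) (e'.injective h1)).symm

/-- A perfect central extension of `PSL(2, 3 ^ (2n+1))` by a 3-group is trivial. -/
theorem center_eq_bot_of_quot {G : Type u} [Group G] [Finite G] (hperf : commutator G = ⊤)
    (hZ : IsPGroup 3 (center G)) (h : IsOddThree (G ⧸ center G)) : center G = ⊥ := by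
  obtain ⟨F, iF, iT, n, hn, hF, ⟨e⟩⟩ := h
  obtain ⟨h4, h2, h9⟩ := four_le_card hn hF
  haveI : Fact (Nat.Prime 3) := ⟨Nat.prime_three⟩
  classical
  have hM := Known.SL2Mult.hasCyclicSchurMultiplier_SL_two (F := F) (by
    intro h
    rw [hF] at h
    have := Nat.prime_three.dvd_of_dvd_pow (n := 2)
      (show 3 ∣ 2 ^ 2 by rw [show 2 ^ 2 = 4 by norm_num, ← h]; exact dvd_pow_self 3 (by omega))
    omega) h9
  let π : G →* PSL 2 F := e.toMonoidHom.comp (QuotientGroup.mk' (center G))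
  have hπ : Function.Surjective π := e.surjective.comp (QuotientGroup.mk'_surjective _)
  have hker : π.ker = center G := by
    ext x
    simp [π, MonoidHom.mem_ker, QuotientGroup.eq_one_iff]
  obtain ⟨χ, hχ⟩ := Schur.exists_lift_of_perfect π hπ hker.le
    (Classical.commutator_SL_two_eq_top h4) hM (proj 2 F)
  have hsurj : Function.Surjective χ := by
    rw [← MonoidHom.range_eq_top, eq_top_iff, ← hperf, commutator_def, commutator_le]
    have hdec : ∀ x : G, ∃ a ∈ χ.range, ∃ z ∈ center G, x = a * z := fun x => by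
      obtain ⟨s, hs⟩ := proj_surjective (π x)
      refine ⟨χ s, ⟨s, rfl⟩, (χ s)⁻¹ * x, ?_, (mul_inv_cancel_left _ _).symm⟩
      rw [← hker, MonoidHom.mem_ker, map_mul, map_inv, ← MonoidHom.comp_apply, hχ, hs, inv_mul_cancel]
    intro x _ y _
    obtain ⟨a, ha, z, hz, rfl⟩ := hdec x
    obtain ⟨b, hb, w, hw, rfl⟩ := hdec y
    have hzc := fun g => (mem_center_iff.1 hz g)
    have hwc := fun g => (mem_center_iff.1 hw g)
    have : ⁅a * z, b * w⁆ = ⁅a, b⁆ := by
      simp only [commutatorElement_def, mul_inv_rev]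
      calc a * z * (b * w) * (z⁻¹ * a⁻¹) * (w⁻¹ * b⁻¹)
          = a * (z * b) * w * z⁻¹ * a⁻¹ * w⁻¹ * b⁻¹ := by group
        _ = a * b * (z * w) * z⁻¹ * a⁻¹ * w⁻¹ * b⁻¹ := by rw [← hzc b]; group
        _ = a * b * (w * a⁻¹) * w⁻¹ * b⁻¹ := by rw [← hzc w]; group
        _ = _ := by rw [← hwc a⁻¹]; group
    rw [this]
    exact mul_mem (mul_mem (mul_mem ha hb) (inv_mem ha)) (inv_mem hb)
  obtain ⟨j, hj⟩ := hZ.exists_card_eq
  refine eq_bot_of_card_eq _ ?_
  have hdvd : Nat.card G ∣ Nat.card (SL 2 F) := Subgroup.card_dvd_of_surjective χ hsurj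
  have hG := card_eq_card_quotient_mul_card_subgroup (center G)
  have hS := CfsgLib.Classical.Two.card_SL_two (F := F)
  have hP := CfsgLib.Classical.Two.card_PSL_two (F := F)
  rw [Nat.card_congr e.toEquiv, hj] at hG
  have hgcd : Nat.gcd 2 (Fintype.card F - 1) = 2 := by
    refine Nat.gcd_eq_left ?_
    have : Fintype.card F % 2 = 1 := by rw [hF, Nat.pow_mod]; norm_num
    omega
  rw [hgcd, ← hS] at hP
  rw [hG, ← hP, mul_comm 2] at hdvd
  have h32 : 3 ^ j ∣ 2 := (Nat.mul_dvd_mul_iff_left Nat.card_pos).1 hdvd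
  rcases j with _ | j
  · simpa using hj
  · have := (dvd_pow_self 3 (Nat.succ_ne_zero j)).trans h32
    omega

end CfsgLib.SThreeFree
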