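import Cfsg.Agent.Lib.SThreeFree.Hyps
import Cfsg.Agent.Lib.SThreeFree.OddThree
import Cfsg.Agent.Lib.LocalEven.GoldS.Families
import Cfsg.Agent.Lib.Components.FStar
import Cfsg.Agent.Lib.Components.PLayer
import Cfsg.Agent.S0144
import Mathlib.GroupTheory.SchurZassenhaus
import Mathlib.GroupTheory.NoncommPiCoprod

/-!
Owner: helper6. Groups generated by 2-elements, without the symmetric group of degree three and without
normal subgroups of order prime to three: they are products of groups `PSL(2, 3 ^ (2n+1))`.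
-/

set_option autoImplicit false
set_option linter.style.haveILetI false

namespace CfsgLib.SThreeFree

open Subgroup
open scoped commutatorElement

universe u

variable {Q : Type u} [Group Q] [Finite Q]

/-- The standing hypotheses. -/
structure Red (Q : Type u) [Group Q] [Finite Q] : Prop where
  free : ¬ Cfsg.Involves (Equiv.Perm (Fin 3)) Q
  core : Cfsg.pPrimeCore 3 Q = ⊥
  gen : Subgroup.closure {g : Q | ∃ k : ℕ, orderOf g = 2 ^ k} = ⊤

variable (h : Red Q)
include h

theorem Red.pCore_le_center : Cfsg.pCore 3 Q ≤ center Q := by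
  haveI := Components.pCore_normal (G := Q) 3
  have hle : closure {g : Q | ∃ k : ℕ, orderOf g = 2 ^ k} ≤ centralizer (Cfsg.pCore 3 Q : Set Q) := by
    rw [closure_le]
    exact fun g hg => mem_centralizer_of_two_element h.free (Components.pCore_isPGroup 3) hg
      (by rw [normalizer_eq_top_iff.2 inferInstance]; exact mem_top g)
  rw [h.gen] at hle
  exact fun x hx => mem_center_iff.2 fun g => ((mem_centralizer_iff.1 (hle (mem_top g))) x hx).symm

theorem Red.fitting_le_center : Cfsg.fittingSubgroup Q ≤ center Q := by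
  haveI : Fact (Nat.Prime 3) := ⟨Nat.prime_three⟩
  rw [Components.fitting_eq_pCore_of_core_bot h.core]
  exact h.pCore_le_center

/-- The centre of a component is a 3-group. -/
theorem Red.center_isPGroup {K : Subgroup Q} (hK : Cfsg.IsComponent K) : IsPGroup 3 (center K) := by
  haveI : Fact (Nat.Prime 3) := ⟨Nat.prime_three⟩
  have hsub : ((center K).map K.subtype).IsSubnormal :=
    (Components.isSubnormal_map_subtype_iff hK.1).2 (Normal.isSubnormal inferInstance)
  have hle : (center K).map K.subtype ≤ Cfsg.pCore 3 Q := by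
    rw [← Components.fitting_eq_pCore_of_core_bot h.core]
    haveI : Group.IsNilpotent (center K) :=
      Subgroup.isNilpotent_of_ker_le_center (1 : center K →* Unit) (fun x _ => mem_center_iff.2 fun y =>
        Subtype.ext (mem_center_iff.1 x.2 y))
    exact Components.subnormal_nilpotent_le_fitting hsub
      ((Group.isNilpotent_congr (equivMapOfInjective (center K) K.subtype K.subtype_injective)).1 inferInstance)
  exact ((Components.pCore_isPGroup 3).to_le hle).of_equiv
    (equivMapOfInjective (center K) K.subtype K.subtype_injective).symm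

/-- The components are groups `PSL(2, 3 ^ (2n+1))`. -/
theorem Red.component (hC : Classification.{u}) {K : Subgroup Q} (hK : Cfsg.IsComponent K) :
    IsOddThree K ∧ center K = ⊥ := by
  haveI : Fact (Nat.Prime 3) := ⟨Nat.prime_three⟩
  haveI := hK.2.2
  have hperf : commutator K = ⊤ := hK.2.1.commutator_eq_top
  have hna : ¬ IsMulCommutative (K ⧸ center K) := fun hc => by
    refine Components.IsQuasisimple.center_ne_top hK.2 (eq_top_iff.2 ?_)
    rw [← hperf]
    haveI := hc
    exact (Normal.quotient_commutative_iff_commutator_le).1 hc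
  have h3 : ¬ Cfsg.Involves (Equiv.Perm (Fin 3)) (K ⧸ center K) := fun hi =>
    h.free (involves_section K _ hi)
  rcases hC _ inferInstance hna h3 with hSz | ⟨F, iF, iT, n, hF, he⟩
  · exfalso
    have h3q : ¬ 3 ∣ Nat.card (K ⧸ center K) := LocalEven.GoldS.card_three_of_suzuki hSz
    obtain ⟨j, hj⟩ := (h.center_isPGroup hK).exists_card_eq
    have hcop : (Nat.card (center K)).Coprime (center K).index := by
      rw [hj, Subgroup.index_eq_card]
      exact Nat.Coprime.pow_left j ((Nat.Prime.coprime_iff_not_dvd Nat.prime_three).2 h3q)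
    obtain ⟨H, hH⟩ := Subgroup.exists_right_complement'_of_coprime hcop
    haveI : H.Normal := ⟨fun a ha x => by
      obtain ⟨⟨⟨z, hz⟩, ⟨b, hb⟩⟩, hx⟩ := hH.2 x
      simp only at hx
      rw [← hx, show z * b * a * (z * b)⁻¹ = z * (b * a * b⁻¹) * z⁻¹ by group,
        ← (mem_center_iff.1 hz (b * a * b⁻¹)), mul_inv_cancel_right]
      exact mul_mem (mul_mem hb ha) (inv_mem hb)⟩
    have hHtop : H = ⊤ := eq_top_iff.2 (by
      rw [← hperf, _root_.commutator_def, commutator_le]
      intro x _ y _
      obtain ⟨⟨⟨z, hz⟩, ⟨a, ha⟩⟩, rfl⟩ := hH.2 x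
      obtain ⟨⟨⟨w, hw⟩, ⟨b, hb⟩⟩, rfl⟩ := hH.2 y
      show ⁅z * a, w * b⁆ ∈ H
      have e : ⁅z * a, w * b⁆ = ⁅a, b⁆ := by
        have hzc := fun g => (mem_center_iff.1 hz g)
        have hwc := fun g => (mem_center_iff.1 hw g)
        simp only [commutatorElement_def, mul_inv_rev]
        calc z * a * (w * b) * (a⁻¹ * z⁻¹) * (b⁻¹ * w⁻¹)
            = z * (a * w) * b * a⁻¹ * z⁻¹ * b⁻¹ * w⁻¹ := by group
          _ = z * (w * a * b * a⁻¹) * z⁻¹ * b⁻¹ * w⁻¹ := by rw [hwc a]; group
          _ = (w * a * b * a⁻¹) * b⁻¹ * w⁻¹ := by rw [← hzc (w * a * b * a⁻¹), mul_inv_cancel_right]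
          _ = w * (a * b * a⁻¹ * b⁻¹) * w⁻¹ := by group
          _ = _ := by rw [← hwc (a * b * a⁻¹ * b⁻¹), mul_inv_cancel_right]
      rw [e, commutatorElement_def]
      exact mul_mem (mul_mem (mul_mem ha hb) (inv_mem ha)) (inv_mem hb))
    have hcardK : Nat.card K = Nat.card (K ⧸ center K) := by
      rw [← Subgroup.index_eq_card, hH.symm.index_eq_card, hHtop, card_top]
    have hle := Components.subnormal_coprime_le_pPrimeCore (p := 3) hK.1 (by
      rw [hcardK]; exact Nat.Coprime.symm ((Nat.Prime.coprime_iff_not_dvd Nat.prime_three).2 h3q))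
    rw [h.core, le_bot_iff] at hle
    exact Components.IsComponent.ne_bot hK hle
  · obtain ⟨e⟩ := he
    have hn : 1 ≤ n := by
      by_contra hn
      obtain rfl : n = 0 := by omega
      have hc := CfsgLib.Classical.Two.card_PSL_two (F := F)
      rw [hF, ← Nat.card_congr e.toEquiv] at hc
      norm_num at hc
      haveI : Group.IsSolvable (K ⧸ center K) := by
        refine Cfsg.Agent.S0144.result 2 3 2 1 Nat.prime_two Nat.prime_three ?_
        omega
      exact hna ⟨⟨IsSimpleGroup.comm_iff_isSolvable.mpr inferInstance⟩⟩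
    have hbot := center_eq_bot_of_quot hperf (h.center_isPGroup hK) ⟨F, iF, iT, n, hn, hF, ⟨e⟩⟩
    refine ⟨⟨F, iF, iT, n, hn, hF, ⟨?_⟩⟩, hbot⟩
    exact (((QuotientGroup.quotientMulEquivOfEq hbot).trans QuotientGroup.quotientBot).symm).trans e

end CfsgLib.SThreeFree
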