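import Cfsg.Agent.Lib.SThreeFree.Sections
import Cfsg.Agent.Lib.LocalEven.GoldS.Families
import Cfsg.Agent.Lib.LocalEven.GoldS.CharFinal
import Cfsg.Agent.Lib.LocalEven.GoldS.Ree
import Cfsg.Agent.Lib.Recog.J1FromOrder.Centre
import Cfsg.Agent.Lib.ThreePrime.Final
import Cfsg.Agent.S2796
import Cfsg.Agent.S0222

/-!
Owner: helper6. Simple groups not involving the symmetric group of degree three, from Goldschmidt's theorem
on strongly closed abelian subgroups and the list of simple groups with abelian Sylow 2-subgroups.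
-/

set_option autoImplicit false

namespace CfsgLib.SThreeFree

open Subgroup
open CfsgLib.LocalEven.GoldS

universe u

variable {G : Type u} [Group G] [Finite G]

/-- The order of a Suzuki group is prime to three. -/
theorem not_three_dvd_of_isSuzuki (h : Cfsg.IsSuzuki G) : ¬ 3 ∣ Nat.card G := by
  obtain ⟨-, m, -, hcard⟩ := h
  have hq : 2 ^ (2 * m + 1) % 3 = 2 := by
    rw [pow_succ, pow_mul, Nat.mul_mod, Nat.pow_mod]
    norm_num
  rw [hcard]
  generalize 2 ^ (2 * m + 1) = q at hq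
  intro hd
  rcases (Nat.prime_three.dvd_mul).1 hd with h | h
  · rcases (Nat.prime_three.dvd_mul).1 h with h | h
    · have := Nat.prime_three.dvd_of_dvd_pow h
      omega
    · rw [Nat.dvd_iff_mod_eq_zero, Nat.add_mod, Nat.pow_mod, hq] at h
      norm_num at h
  · omega

/-- Constrained sections of a counterexample of least order have only known factors. -/
theorem hsec_of_small [IsSimpleGroup G] (hna : ¬ IsMulCommutative G)
    (h3 : ¬ Cfsg.Involves (Equiv.Perm (Fin 3)) G)
    (small : ∀ (X : Type u) [Group X] [Finite X], IsSimpleGroup X → ¬ IsMulCommutative X →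
      ¬ Cfsg.Involves (Equiv.Perm (Fin 3)) X → Nat.card X < Nat.card G →
      Cfsg.IsSuzukiOrPSL2OddPowerThree X)
    (K R : Subgroup G) [hR : (R.subgroupOf K).Normal]
    (hcon : Subgroup.centralizer (Cfsg.pCore 2 (K ⧸ R.subgroupOf K) : Set (K ⧸ R.subgroupOf K)) ≤
      Cfsg.pCore 2 (K ⧸ R.subgroupOf K)) :
    Cfsg.IsCompositionKGroupWith Cfsg.IsSuzukiOrPSL2OddPowerThree (K ⧸ R.subgroupOf K) := by
  intro H _ N _ hs hn
  haveI : Fact (Nat.Prime 2) := ⟨Nat.prime_two⟩
  refine small _ hs hn (fun hi => h3 (involves_section K _ (involves_section H N hi))) ?_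
  have hdvd : Nat.card (H ⧸ N) ∣ Nat.card (K ⧸ R.subgroupOf K) := ThreePrime.card_section_dvd H N
  have hdvd' := ThreePrime.card_section_dvd K (R.subgroupOf K)
  by_contra hge
  have heq : Nat.card (K ⧸ R.subgroupOf K) = Nat.card G :=
    le_antisymm (Nat.le_of_dvd Nat.card_pos hdvd')
      ((not_lt.mp hge).trans (Nat.le_of_dvd Nat.card_pos hdvd))
  have hK : K = ⊤ := eq_top_of_card_eq K (le_antisymm (card_le_card_group K)
    (heq.ge.trans (Nat.le_of_dvd Nat.card_pos (card_quotient_dvd_card _))))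
  subst hK
  have hR1 : R.subgroupOf ⊤ = ⊥ := by
    refine eq_bot_of_card_eq _ ?_
    have h2 := (R.subgroupOf (⊤ : Subgroup G)).card_eq_card_quotient_mul_card_subgroup
    rw [heq, card_top] at h2
    exact Nat.eq_of_mul_eq_mul_left (Nat.card_pos (α := G)) (h2.symm.trans (mul_one _).symm)
  let e : ((⊤ : Subgroup G) ⧸ R.subgroupOf ⊤) ≃* G :=
    ((QuotientGroup.quotientMulEquivOfEq hR1).trans QuotientGroup.quotientBot).trans topEquiv
  haveI : IsSimpleGroup ((⊤ : Subgroup G) ⧸ R.subgroupOf ⊤) :=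
    haveI : Nontrivial G := IsSimpleGroup.toNontrivial
    haveI : Nontrivial ((⊤ : Subgroup G) ⧸ R.subgroupOf ⊤) := e.toEquiv.nontrivial
    IsSimpleGroup.isSimpleGroup_of_surjective e.symm.toMonoidHom e.symm.surjective
  rcases IsSimpleGroup.eq_bot_or_eq_top_of_normal
      (Cfsg.pCore 2 ((⊤ : Subgroup G) ⧸ R.subgroupOf ⊤)) inferInstance with hb | ht
  · rw [hb] at hcon
    have htop : (⊤ : Subgroup ((⊤ : Subgroup G) ⧸ R.subgroupOf ⊤)) ≤ ⊥ := fun x _ =>
      hcon (mem_centralizer_iff.mpr fun y hy => by rw [mem_bot.mp hy, one_mul, mul_one])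
    exact absurd htop (fun h1 => top_ne_bot (le_bot_iff.mp h1))
  · obtain ⟨k, hk⟩ := (CfsgLib.Core.isPGroup_pCore 2
      ((⊤ : Subgroup G) ⧸ R.subgroupOf ⊤)).exists_card_eq
    rw [ht, card_top, heq] at hk
    haveI := (IsPGroup.of_card hk : IsPGroup 2 G).isNilpotent
    exact hna ⟨⟨IsSimpleGroup.comm_iff_isSolvable.mpr inferInstance⟩⟩

/-- A strongly closed nontrivial abelian 2-subgroup exists. -/
theorem exists_closed [IsSimpleGroup G] (hna : ¬ IsMulCommutative G)
    (h3 : ¬ Cfsg.Involves (Equiv.Perm (Fin 3)) G)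
    (small : ∀ (X : Type u) [Group X] [Finite X], IsSimpleGroup X → ¬ IsMulCommutative X →
      ¬ Cfsg.Involves (Equiv.Perm (Fin 3)) X → Nat.card X < Nat.card G →
      Cfsg.IsSuzukiOrPSL2OddPowerThree X) (S : Sylow 2 G) :
    ∃ A : Subgroup G, A ≠ ⊥ ∧ IsMulCommutative A ∧ Cfsg.IsStronglyClosed A (S : Subgroup G) := by
  classical
  haveI : Fact (Nat.Prime 2) := ⟨Nat.prime_two⟩
  have heven : 2 ∣ Nat.card G := by
    by_contra hev
    haveI := Cfsg.Agent.S0205.result
      (Nat.not_even_iff_odd.mp fun h => hev (even_iff_two_dvd.mp h))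
    exact hna ⟨⟨IsSimpleGroup.comm_iff_isSolvable.mpr inferInstance⟩⟩
  set A0 := (normalClosure (((Cfsg.omegaOne 2 ((S : Subgroup G) ⊓
      centralizer ((S : Subgroup G) : Set G))).subgroupOf
      (normalizer (Cfsg.thompsonSubgroupOf 2 (S : Subgroup G) : Set G)) :
        Subgroup ↥(normalizer (Cfsg.thompsonSubgroupOf 2 (S : Subgroup G) : Set G))) :
      Set ↥(normalizer (Cfsg.thompsonSubgroupOf 2 (S : Subgroup G) : Set G)))).map
      (normalizer (Cfsg.thompsonSubgroupOf 2 (S : Subgroup G) : Set G)).subtype with hA0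
  obtain ⟨-, hel, hsc, -⟩ := Cfsg.Agent.S2796.result (not_involves_four h3)
    (fun K R hR hcon => @hsec_of_small G _ _ _ hna h3 small K R hR hcon) S _ rfl A0 rfl
  refine ⟨A0, ?_, hel.1, hsc⟩
  intro e
  have hz := CfsgLib.LocalEven.Factor.zS_ne_bot S.isPGroup' (S.ne_bot_of_dvd_card heven)
  refine hz (le_bot_iff.mp fun z hz' => ?_)
  rw [← e, hA0]
  have hzJ : z ∈ normalizer (Cfsg.thompsonSubgroupOf 2 (S : Subgroup G) : Set G) := by
    have hzS : z ∈ (S : Subgroup G) := (CfsgLib.PGroups.omegaOne_le (p := 2) _ hz').1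
    exact (CfsgLib.LocalEven.Factor.normalizer_je _) (le_normalizer hzS)
  exact ⟨⟨z, hzJ⟩, subset_normalClosure (mem_subgroupOf.mpr hz'), rfl⟩

/-- The strongly embedded case. -/
theorem of_stronglyEmbedded [IsSimpleGroup G] (hna : ¬ IsMulCommutative G)
    (h3 : ¬ Cfsg.Involves (Equiv.Perm (Fin 3)) G) {H : Subgroup G} (hH : Cfsg.IsStronglyEmbedded H) :
    Cfsg.IsSuzukiOrPSL2OddPowerThree G := by
  have hab : ∃ a b : G, a * b ≠ b * a := by
    by_contra h
    push Not at h
    exact hna ⟨⟨h⟩⟩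
  rcases Cfsg.Agent.S0222.result hab H hH with ⟨F, iF, iT, hch, -, ⟨e⟩⟩ | hSz | ⟨F, iF, iT, q, hF, hq, -, ⟨e⟩⟩
  · exact absurd (involves_congr e.symm (involves_three_psl (a := 1) (b := 0)
      (by linear_combination (CharTwo.two_eq_zero : (2 : F) = 0)))) h3
  · exact Or.inl (ThreePrime.goal_result G inferInstance hna (not_three_dvd_of_isSuzuki hSz))
  · haveI : CharP F 2 := by
      obtain ⟨p, hp⟩ := CharP.exists F
      obtain ⟨k, hpp, hk⟩ := FiniteField.card F p
      have h2 : 2 ∣ p ^ (k : ℕ) := by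
        rw [← hk, hF]
        exact (even_iff_two_dvd.1 hq).trans (dvd_pow_self q (by norm_num))
      obtain rfl := (Nat.prime_dvd_prime_iff_eq Nat.prime_two hpp).1 (Nat.prime_two.dvd_of_dvd_pow h2)
      exact hp
    exact absurd (involves_congr e.symm (involves_three_psu hF)) h3

/-- The case of abelian Sylow 2-subgroups. -/
theorem of_abelian (hW : Walter.WalterList.{u}) [IsSimpleGroup G] (hna : ¬ IsMulCommutative G)
    (h3 : ¬ Cfsg.Involves (Equiv.Perm (Fin 3)) G) (S : Sylow 2 G)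
    (hS : IsMulCommutative (S : Subgroup G)) : Cfsg.IsSuzukiOrPSL2OddPowerThree G := by
  rcases hW G hna (AbelianSolvCent.abSylow_of_one S hS) with
    ⟨n, hn, F, iF, iT, hF, ⟨e⟩⟩ | ⟨F, iF, iT, h5, hq, ⟨e⟩⟩ | ⟨-, hJ⟩ | ⟨F, iF, iT, hch, ⟨c⟩⟩
  · haveI : CharP F 2 := charP_of_card_eq_prime_pow (hp := ⟨Nat.prime_two⟩) hF
    exact absurd (involves_congr e.symm (involves_three_psl (a := 1) (b := 0)
      (by linear_combination (CharTwo.two_eq_zero : (2 : F) = 0)))) h3
  · exact (criterion_of_not_ree (Or.inr (Or.inr (Or.inr (Or.inl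
      ⟨F, iF, iT, _, rfl, h5, hq, ⟨e⟩⟩))))).2.1 h3
  · obtain ⟨t, -, ⟨c⟩⟩ := Recog.J1FromOrder.exists_local hJ
    refine absurd ?_ h3
    let ρ : Multiplicative (ZMod 2) × ↥(alternatingGroup (Fin 5)) →* G :=
      (Subgroup.centralizer ({t} : Set G)).subtype.comp c.symm.toMonoidHom
    have hρ : Function.Injective ρ := Subtype.val_injective.comp c.symm.injective
    let a : ↥(alternatingGroup (Fin 5)) :=
      ⟨Equiv.swap 0 1 * Equiv.swap 3 4, Equiv.Perm.mem_alternatingGroup.2 (by decide)⟩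
    let y : ↥(alternatingGroup (Fin 5)) :=
      ⟨Equiv.swap 0 1 * Equiv.swap 1 2, Equiv.Perm.mem_alternatingGroup.2 (by decide)⟩
    refine CfsgLib.LocalEven.SFreeOffender.involves_three_of_inverted (a := ρ (1, a)) (y := ρ (1, y)) ?_ ?_ ?_ ?_
    · rw [← map_mul, Prod.mk_mul_mk, show a * a = 1 by decide, one_mul]
      exact map_one ρ
    · rw [← map_inv, ← map_inv, ← map_mul, ← map_mul, Prod.inv_mk, Prod.inv_mk, Prod.mk_mul_mk,
        Prod.mk_mul_mk, show a * y * a⁻¹ = y⁻¹ by decide]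
      simp
    · rw [← map_pow, Prod.pow_mk, one_pow, show y ^ 3 = 1 by decide]
      exact map_one ρ
    · intro hy
      have := hρ (hy.trans (map_one ρ).symm)
      exact absurd (congrArg Prod.snd this) (show y ≠ 1 by decide)
  · exact (criterion_of_real c fun hno => c.exists_real_three hno).2.1 h3

/-- The classification of simple groups not involving the symmetric group of degree three. -/
theorem classification (hG : GoldschmidtInput.{u}) (hW : Walter.WalterList.{u}) :
    Classification.{u} := by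
  suffices key : ∀ n : ℕ, ∀ (G : Type u) [Group G] [Finite G], Nat.card G = n → IsSimpleGroup G →
      ¬ IsMulCommutative G → ¬ Cfsg.Involves (Equiv.Perm (Fin 3)) G →
      Cfsg.IsSuzukiOrPSL2OddPowerThree G from fun G _ _ => key _ G rfl
  intro n
  induction n using Nat.strong_induction_on with
  | _ n IH =>
    intro G _ _ hn hs hna h3
    haveI := hs
    obtain ⟨S⟩ := (inferInstance : Nonempty (Sylow 2 G))
    obtain ⟨A, hA, hAc, hsc⟩ := exists_closed hna h3
      (fun X _ _ hXs hXn hX3 hlt => IH _ (hn ▸ hlt) X rfl hXs hXn hX3) S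
    rcases hG G S A hA hAc hsc with hS | ⟨H, hH⟩
    · exact of_abelian hW hna h3 S hS
    · exact of_stronglyEmbedded hna h3 hH

end CfsgLib.SThreeFree
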