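import Cfsg.Agent.Lib.SThreeFree.Sections
import Cfsg.Agent.Lib.LocalEven.SFour
import Cfsg.Agent.Lib.LocalEven.OffenderStep

/-!
Owner: helper6. The symmetric group of degree three is involved exactly when some element of order three
is conjugate to its inverse.
-/

set_option autoImplicit false

namespace CfsgLib.SThreeFree

open Subgroup

universe u

variable {G : Type u} [Group G] [Finite G]

omit [Finite G] in
/-- An inverted element of 3-power order gives one of order three. -/
theorem exists_real_of_inverted {t z : G} {j : ℕ} (hz : orderOf z = 3 ^ j) (hz1 : z ≠ 1)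
    (h : t * z * t⁻¹ = z⁻¹) : ∃ x : G, orderOf x = 3 ∧ IsConj x x⁻¹ ∧ x ∈ zpowers z := by
  cases j with
  | zero => exact absurd (orderOf_eq_one_iff.1 (by simpa using hz)) hz1
  | succ j =>
    refine ⟨z ^ 3 ^ j, ?_, isConj_iff.2 ⟨t, by rw [← conj_pow, h, inv_pow]⟩, pow_mem (mem_zpowers z) _⟩
    rw [orderOf_pow_of_dvd (by positivity) (hz ▸ pow_dvd_pow 3 (Nat.le_succ j)), hz,
      Nat.pow_div (Nat.le_succ j) (by norm_num)]
    simp

/-- An element of order three conjugate to its inverse gives the symmetric group of degree three. -/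
theorem involves_three_of_isConj {x : G} (hx : orderOf x = 3) (h : IsConj x x⁻¹) :
    Cfsg.Involves (Equiv.Perm (Fin 3)) G := by
  obtain ⟨g, hg⟩ := isConj_iff.1 h
  obtain ⟨a, m, hm, ham⟩ := Nat.exists_eq_two_pow_mul_odd (orderOf_pos g).ne'
  have hinv : ∀ i : ℕ, g ^ (2 * i + 1) * x * (g ^ (2 * i + 1))⁻¹ = x⁻¹ := by
    intro i
    induction i with
    | zero => simpa using hg
    | succ i ih =>
      have h1 : g * x⁻¹ * g⁻¹ = x := by rw [← conj_inv, hg, inv_inv]
      calc g ^ (2 * (i + 1) + 1) * x * (g ^ (2 * (i + 1) + 1))⁻¹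
          = g * (g * (g ^ (2 * i + 1) * x * (g ^ (2 * i + 1))⁻¹) * g⁻¹) * g⁻¹ := by
            rw [show 2 * (i + 1) + 1 = 1 + 1 + (2 * i + 1) by ring, pow_add]; group
        _ = x⁻¹ := by rw [ih, h1, hg]
  obtain ⟨i, rfl⟩ := hm
  set t := g ^ (2 * i + 1) with ht
  have htx : t * x * t⁻¹ = x⁻¹ := hinv i
  have hto : t ^ 2 ^ a = 1 := by rw [ht, ← pow_mul, mul_comm, ← ham, pow_orderOf_eq_one]
  -- the group generated by the two elements modulo the square of `t`
  set X : Subgroup G := closure {x, t} with hX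
  have hxX : x ∈ X := subset_closure (Or.inl rfl)
  have htX : t ∈ X := subset_closure (Or.inr rfl)
  have h2x : Commute (t ^ 2) x := by
    have e : t ^ 2 * x * (t ^ 2)⁻¹ = x := by
      rw [pow_two, show t * t * x * (t * t)⁻¹ = t * (t * x * t⁻¹) * t⁻¹ by group, htx, ← conj_inv, htx, inv_inv]
    exact mul_inv_eq_iff_eq_mul.1 e
  set N : Subgroup X := zpowers (⟨t ^ 2, pow_mem htX 2⟩ : X) with hN
  have hcen : X ≤ centralizer ({t ^ 2} : Set G) := by
    rw [hX, closure_le]
    rintro y (rfl | rfl)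
    · exact mem_centralizer_singleton_iff.2 h2x.eq.symm
    · exact mem_centralizer_singleton_iff.2 (by rw [← pow_succ', ← pow_succ])
  haveI : N.Normal := ⟨fun n hn y => by
    obtain ⟨l, rfl⟩ := hn
    have hy : Commute (t ^ 2) (y : G) := (mem_centralizer_singleton_iff.1 (hcen y.2)).symm
    refine ⟨l, Subtype.ext ?_⟩
    simp only [Subgroup.coe_mul, Subgroup.coe_inv, Subgroup.coe_zpow]
    rw [← (hy.zpow_left l).eq, mul_inv_cancel_right]⟩
  refine involves_subgroup X (involves_quotient (QuotientGroup.mk' N) (QuotientGroup.mk'_surjective N) ?_)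
  refine LocalEven.SFreeOffender.involves_three_of_inverted (a := QuotientGroup.mk' N ⟨t, htX⟩)
    (y := QuotientGroup.mk' N ⟨x, hxX⟩) ?_ ?_ ?_ ?_
  · rw [← map_mul]
    exact (QuotientGroup.eq_one_iff _).2 ⟨1, Subtype.ext (by simp [pow_two])⟩
  · rw [← map_inv, ← map_inv, ← map_mul, ← map_mul]
    exact congrArg _ (Subtype.ext htx)
  · rw [← map_pow]
    exact congrArg _ (Subtype.ext (orderOf_dvd_iff_pow_eq_one.1 (dvd_of_eq hx))) |>.trans (map_one _)
  · intro h1
    obtain ⟨l, hl⟩ := (QuotientGroup.eq_one_iff (⟨x, hxX⟩ : X)).1 h1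
    have hxl : x = (t ^ 2) ^ l := (congrArg Subtype.val hl).symm.trans (by simp)
    have hd : x ^ 2 ^ a = 1 := by
      rw [hxl, ← zpow_natCast, ← zpow_mul, mul_comm, zpow_mul, zpow_natCast, ← pow_mul, mul_comm, pow_mul,
        hto, one_pow, one_zpow]
    have := Nat.prime_three.dvd_of_dvd_pow (hx ▸ orderOf_dvd_of_pow_eq_one hd)
    omega

/-- The symmetric group of degree three is involved iff an element of order three is conjugate to its inverse. -/
theorem involves_three_iff :
    Cfsg.Involves (Equiv.Perm (Fin 3)) G ↔ ∃ x : G, orderOf x = 3 ∧ IsConj x x⁻¹ := by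
  refine ⟨fun h => ?_, fun ⟨x, hx, hc⟩ => involves_three_of_isConj hx hc⟩
  haveI : Fact (Nat.Prime 3) := ⟨Nat.prime_three⟩
  obtain ⟨K, π, hπ⟩ := LocalEven.GoldS.exists_hom_of_involves h
  obtain ⟨t, z, -, ⟨j, hj⟩, htz, hz1⟩ := LocalEven.exists_inverting_lift π hπ (p := 3) (by norm_num)
    (xb := Equiv.swap 0 1) (yb := Equiv.swap 0 1 * Equiv.swap 1 2)
    ⟨1, orderOf_eq_prime (by decide) (by decide)⟩ (by decide) (by decide)
  obtain ⟨x, hx, hc, -⟩ := exists_real_of_inverted hj (fun e => hz1 (by rw [e, map_one])) htz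
  exact ⟨(x : G), (orderOf_submonoid x).trans hx, K.subtype.map_isConj hc⟩

end CfsgLib.SThreeFree
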