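import Cfsg.Agent.Lib.SThreeFree.Engine
import Cfsg.Agent.Lib.SThreeFree.Real
import Cfsg.Agent.Lib.Perm.ElemCentRecog
import Cfsg.Agent.Lib.Classical.SmallIso
import Cfsg.Agent.Lib.LocalEven.ZJFusionFailure
import Cfsg.Agent.Lib.PLocal.PStable
import Cfsg.Agent.S0496
import Mathlib.FieldTheory.Finite.GaloisField

/-!
Owner: helper6. The rows S4031 and S2757, given the classification of simple groups not involving the
symmetric group of degree three.
-/

set_option autoImplicit false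

namespace CfsgLib.SThreeFree

open Subgroup

universe u

/-- `PSL(2, 3)` is not simple non-abelian: the exponent is positive. -/
theorem one_le_exponent {G : Type u} [Group G] [Finite G] [IsSimpleGroup G] (hna : ¬ IsMulCommutative G)
    {F : Type} [Field F] [Fintype F] {n : ℕ} (hF : Fintype.card F = 3 ^ (2 * n + 1))
    (e : G ≃* Matrix.ProjectiveSpecialLinearGroup (Fin 2) F) : 1 ≤ n := by
  by_contra h
  obtain rfl : n = 0 := by omega
  have hc := CfsgLib.Classical.Two.card_PSL_two (F := F)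
  rw [hF, ← Nat.card_congr e.toEquiv] at hc
  norm_num at hc
  have := Cfsg.Agent.S0496.result hna (G := G)
  omega

/-- S4031, given the classification. -/
theorem irrational_three (hC : Classification.{u}) {G : Type u} [Group G] [Finite G] [IsSimpleGroup G]
    (hna : ¬ IsMulCommutative G)
    (hirr : ∀ x : G, (∀ r : ℕ, r.Prime → r ∣ orderOf x → r = 3) →
      Subgroup.normalizer ((Subgroup.zpowers x : Subgroup G) : Set G) ≤ Subgroup.centralizer {x}) :
    (∃ f : ℕ, 1 ≤ f ∧ Nonempty (G ≃* Matrix.ProjectiveSpecialLinearGroup (Fin 2) (GaloisField 3 (2 * f + 1)))) ∨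
    Cfsg.IsSuzuki G := by
  have h3 : ¬ Cfsg.Involves (Equiv.Perm (Fin 3)) G := by
    rw [involves_three_iff]
    rintro ⟨x, hx, hc⟩
    obtain ⟨g, hg⟩ := isConj_iff.1 hc
    have hN : g ∈ normalizer ((zpowers x : Subgroup G) : Set G) :=
      mem_normalizer_iff_map_conj_eq.2 (by
        rw [MonoidHom.map_zpowers]
        show zpowers (g * x * g⁻¹) = zpowers x
        rw [hg, zpowers_inv])
    have h1 := hirr x (fun r hr hd => (Nat.prime_dvd_prime_iff_eq hr Nat.prime_three).1 (hx ▸ hd)) hN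
    rw [mem_centralizer_singleton_iff.1 h1, mul_inv_cancel_right] at hg
    have h2 : x ^ 2 = 1 := by rw [pow_two]; nth_rewrite 2 [hg]; exact mul_inv_cancel x
    have h3 := orderOf_dvd_of_pow_eq_one h2
    rw [hx] at h3
    norm_num at h3
  rcases hC G inferInstance hna h3 with h | ⟨F, iF, iT, n, hF, ⟨e⟩⟩
  · exact Or.inr (CfsgLib.Lie.RankOneClass.isSuzuki_of_isoSuzuki h)
  · haveI : Fact (Nat.Prime 3) := ⟨Nat.prime_three⟩
    haveI : Fintype (GaloisField 3 (2 * n + 1)) := Fintype.ofFinite _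
    have hK : Fintype.card (GaloisField 3 (2 * n + 1)) = 3 ^ (2 * n + 1) := by
      rw [← Nat.card_eq_fintype_card, GaloisField.card 3 _ (by omega)]
    obtain ⟨e'⟩ := Perm.nonempty_psl_congr (FiniteField.ringEquivOfCardEq (hF.trans hK.symm))
    exact Or.inl ⟨n, one_le_exponent hna hF e, ⟨e.trans e'⟩⟩

/-- Sections of a group without the symmetric group of degree three have only the two families as factors. -/
theorem isCompositionKGroupWith (hC : Classification.{u}) {G : Type u} [Group G] [Finite G]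
    (h3 : ¬ Cfsg.Involves (Equiv.Perm (Fin 3)) G) :
    Cfsg.IsCompositionKGroupWith Cfsg.IsSuzukiOrPSL2OddPowerThree G :=
  fun H _ N _ hs hn => hC _ hs hn fun hi => h3 (involves_section H N hi)

theorem units_three_val : ∀ u : (ZMod 3)ˣ, u ≠ 1 → (u : ZMod 3).val = 2 := by decide

theorem units_three_ne : (-1 : (ZMod 3)ˣ) ≠ 1 := by decide

/-- The ZJ step: an inverted element of order three gives an inverted element inside `N(Z(J(T)))`. -/
theorem exists_inverted_zj_three {G : Type u} [Group G] [Finite G] [Fact (Nat.Prime 3)] (T : Sylow 3 G)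
    (h : Cfsg.Involves (Equiv.Perm (Fin 3)) G) :
    ∃ x ∈ (T : Subgroup G), x ≠ 1 ∧
      ∃ g ∈ normalizer (Cfsg.centerThompsonAOf (T : Subgroup G) : Set G), g * x * g⁻¹ = x⁻¹ := by
  obtain ⟨x, hx, hc⟩ := involves_three_iff.1 h
  obtain ⟨T', hT'⟩ := (IsPGroup.of_card (n := 1) (by rw [Nat.card_zpowers, hx, pow_one]) :
    IsPGroup 3 ↥(zpowers x)).exists_le_sylow
  obtain ⟨k, hk⟩ := MulAction.exists_smul_eq G T' T
  obtain ⟨t', ht'⟩ := isConj_iff.1 hc
  obtain ⟨z, hzdef⟩ : ∃ z, z = k * x * k⁻¹ := ⟨_, rfl⟩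
  obtain ⟨t, htdef⟩ : ∃ t, t = k * t' * k⁻¹ := ⟨_, rfl⟩
  have hz : z ∈ (T : Subgroup G) := by
    rw [← hk, Sylow.coe_subgroup_smul, mem_pointwise_smul_iff_inv_smul_mem, hzdef]
    simpa [MulAut.smul_def, mul_assoc] using hT' (mem_zpowers x)
  have hz1 : z ≠ 1 := by
    intro e
    rw [hzdef, conj_eq_one_iff] at e
    rw [e, orderOf_one] at hx
    omega
  have htz : t * z * t⁻¹ = z⁻¹ := by
    rw [hzdef, htdef]
    calc k * t' * k⁻¹ * (k * x * k⁻¹) * (k * t' * k⁻¹)⁻¹ = k * (t' * x * t'⁻¹) * k⁻¹ := by group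
      _ = _ := by rw [ht']; group
  rcases LocalEven.ZJFail.control_or_concl (p := 3) (by norm_num) T with hctl | ⟨-, g, hg, v, hv, hvo, l, hl, hgv⟩
  · obtain ⟨g, hg, hgz⟩ := hctl (zpowers z) (zpowers_le.2 hz) t (by
      rintro _ ⟨i, rfl⟩
      show t * z ^ i * t⁻¹ ∈ _
      rw [← conj_zpow, htz]; exact zpow_mem (inv_mem hz) i)
    exact ⟨z, hz, hz1, g, hg, (hgz z (mem_zpowers z)).trans htz⟩
  · refine ⟨v, PLocal.centerThompsonA_le _ hv, fun h1 => by rw [h1, orderOf_one] at hvo; omega, g, hg, ?_⟩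
    have hl2 : (l : ZMod 3).val = 2 := by
      have hl1 : l ≠ 1 := by
        rintro rfl
        have h1 := hl (-1)
        simp only [zpowers_one_eq_bot, mem_bot] at h1
        exact units_three_ne h1
      exact units_three_val l hl1
    rw [hgv, hl2]
    exact eq_inv_of_mul_eq_one_left (by rw [← pow_succ, orderOf_dvd_iff_pow_eq_one.1 (hvo ▸ dvd_rfl)])

/-- S2757, given the classification. -/
theorem zj_three (hC : Classification.{u}) {G : Type u} [Group G] [Finite G] (T : Sylow 3 G)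
    (h : ∀ x ∈ (T : Subgroup G), x ≠ 1 →
      ∀ g ∈ Subgroup.normalizer (Cfsg.centerThompsonAOf (T : Subgroup G) : Set G), g * x * g⁻¹ ≠ x⁻¹) :
    ¬ Cfsg.Involves (Equiv.Perm (Fin 3)) G ∧
      Cfsg.IsCompositionKGroupWith Cfsg.IsSuzukiOrPSL2OddPowerThree G := by
  haveI : Fact (Nat.Prime 3) := ⟨Nat.prime_three⟩
  have h3 : ¬ Cfsg.Involves (Equiv.Perm (Fin 3)) G := fun hi => by
    obtain ⟨x, hx, hx1, g, hg, hgx⟩ := exists_inverted_zj_three T hi
    exact h x hx hx1 g hg hgx
  exact ⟨h3, isCompositionKGroupWith hC h3⟩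

end CfsgLib.SThreeFree
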