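import Cfsg.Agent.Lib.SThreeFree.OddThree
import Cfsg.Agent.Lib.SThreeFree.RowsA
import Cfsg.Agent.Lib.Known.SuzukiAut
import Mathlib.NumberTheory.LegendreSymbol.QuadraticChar.Basic

/-!
Owner: helper6. Automorphisms of `PSL(2, 3 ^ (2n+1))` and of the Suzuki groups: each fixes a non-trivial
element, and a group of automorphisms meeting the inner ones trivially is cyclic.
-/

set_option autoImplicit false
set_option linter.style.haveILetI false

namespace CfsgLib.SThreeFree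

open Subgroup

universe u v

/-- Every automorphism fixes a non-trivial element, and the subgroups of automorphisms meeting the inner
automorphisms trivially are cyclic. -/
def HasSmallAut (L : Type u) [Group L] : Prop :=
  (∀ β : MulAut L, ∃ y : L, y ≠ 1 ∧ β y = y) ∧
    ∀ B : Subgroup (MulAut L), B ⊓ Cfsg.Inn L = ⊥ → IsCyclic B

theorem congr_conj {L : Type u} {M : Type v} [Group L] [Group M] (e : L ≃* M) (g : L) :
    MulAut.congr e (MulAut.conj g) = MulAut.conj (e g) := by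
  refine MulEquiv.ext fun x => ?_
  simp [MulAut.congr, MulAut.conj_apply]

theorem HasSmallAut.congr {L : Type u} {M : Type v} [Group L] [Group M] (e : L ≃* M)
    (h : HasSmallAut M) : HasSmallAut L := by
  constructor
  · intro β
    obtain ⟨y, hy, hfix⟩ := h.1 (MulAut.congr e β)
    refine ⟨e.symm y, fun hy1 => hy ?_, e.injective ?_⟩
    · simpa using congrArg e hy1
    · simpa [MulAut.congr] using hfix
  · intro B hB
    have hd : B.map (MulAut.congr e).toMonoidHom ⊓ Cfsg.Inn M = ⊥ := by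
      rw [eq_bot_iff]
      rintro x ⟨⟨b, hb, rfl⟩, ⟨m, hm⟩⟩
      have hbi : b ∈ B ⊓ Cfsg.Inn L := ⟨hb, e.symm m, (MulAut.congr e).injective (by
        rw [congr_conj, e.apply_symm_apply]; exact hm)⟩
      rw [hB, mem_bot] at hbi
      show MulAut.congr e b = 1
      rw [hbi, map_one]
    haveI := h.2 _ hd
    exact isCyclic_of_surjective (equivMapOfInjective B (MulAut.congr e).toMonoidHom
      (MulAut.congr e).injective).symm (MulEquiv.surjective _)

/-- If the automorphism `conj l * β` fixes a non-trivial element, then so does `β`. -/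
theorem exists_fixed_of_coset {L : Type u} [Group L] [Finite L] (β : MulAut L) (l : L)
    (h : ∃ y : L, y ≠ 1 ∧ (MulAut.conj l * β) y = y) : ∃ y : L, y ≠ 1 ∧ β y = y := by
  by_contra hno
  push Not at hno
  have hinj : Function.Injective fun x : L => x * (β x)⁻¹ := by
    intro a b hab
    by_contra hne
    refine hno (b⁻¹ * a) (fun h1 => hne (inv_mul_eq_one.1 h1).symm) ?_
    have h1 := congrArg (fun z => b⁻¹ * z * β a) hab
    simp only [inv_mul_cancel_right, mul_assoc, inv_mul_cancel, mul_one, inv_mul_cancel_left] at h1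
    rw [map_mul, map_inv, h1]
  obtain ⟨x, hx⟩ := (Finite.injective_iff_surjective.1 hinj) l
  obtain ⟨y, hy, hfix⟩ := h
  refine hno (x⁻¹ * y * x) (fun h1 => hy ?_) ?_
  · rw [mul_assoc, inv_mul_eq_one] at h1
    exact (mul_eq_right.1 h1.symm)
  · simp only [← hx, MulAut.mul_apply, MulAut.conj_apply, mul_inv_rev, inv_inv] at hfix
    have h1 := congrArg (fun z => x⁻¹ * z * x) hfix
    simp only [mul_assoc, inv_mul_cancel, mul_one, inv_mul_cancel_left] at h1
    rw [map_mul, map_mul, map_inv]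
    simpa [mul_assoc] using h1

section PSL

open CfsgLib.Known.AutPSL

variable {F : Type} [Field F] [Fintype F]

theorem card_mod_four {n : ℕ} (hF : Fintype.card F = 3 ^ (2 * n + 1)) : Fintype.card F % 4 = 3 := by
  rw [hF, pow_succ, pow_mul, Nat.mul_mod, Nat.pow_mod]
  norm_num

/-- A unit or its negative is a square. -/
theorem exists_sq_or_neg {n : ℕ} (hn : 1 ≤ n) (hF : Fintype.card F = 3 ^ (2 * n + 1)) (u : Fˣ) :
    (∃ c : Fˣ, u = c ^ 2) ∨ ∃ c : Fˣ, -u = c ^ 2 := by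
  have key : ∀ w : Fˣ, IsSquare (w : F) → ∃ c : Fˣ, w = c ^ 2 := by
    rintro w ⟨r, hr⟩
    have hr0 : r ≠ 0 := fun h => w.ne_zero (by rw [hr, h, mul_zero])
    exact ⟨Units.mk0 r hr0, Units.ext (by rw [hr]; simp [pow_two])⟩
  haveI : Fact (Nat.Prime 3) := ⟨Nat.prime_three⟩
  haveI : CharP F 3 := charP_of_card_eq_prime_pow hF
  have hchar : ringChar F ≠ 2 := by rw [ringChar.eq F 3]; norm_num
  by_cases hsq : IsSquare (u : F)
  · exact Or.inl (key u hsq)
  refine Or.inr (key _ ?_)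
  have hneg : ¬ IsSquare (-1 : F) := fun h =>
    (FiniteField.isSquare_neg_one_iff.1 h) (card_mod_four hF)
  rw [FiniteField.isSquare_iff hchar u.ne_zero] at hsq
  rw [FiniteField.isSquare_iff hchar (neg_ne_zero.2 one_ne_zero)] at hneg
  rw [FiniteField.isSquare_iff hchar (-u).ne_zero, Units.val_neg, neg_eq_neg_one_mul, mul_pow,
    (FiniteField.pow_dichotomy hchar (neg_ne_zero.2 one_ne_zero)).resolve_left hneg,
    (FiniteField.pow_dichotomy hchar u.ne_zero).resolve_left hsq]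
  norm_num

theorem det_diagNeg : Matrix.GeneralLinearGroup.det (diagNeg : GL (Fin 2) F) = -1 :=
  Units.ext (by simp [diagNeg, Matrix.det_fin_two_of])

theorem exists_fixed_psl {n : ℕ} (hn : 1 ≤ n) (hF : Fintype.card F = 3 ^ (2 * n + 1))
    (β : MulAut (PSL 2 F)) : ∃ y : PSL 2 F, y ≠ 1 ∧ β y = y := by
  haveI : Finite (PSL 2 F) := inferInstance
  obtain ⟨g, σ, rfl⟩ := GW.KFactsProof.exists_semilin β
  let w : SL 2 F := ⟨!![0, 1; -1, 0], by simp [Matrix.det_fin_two_of]⟩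
  have hw : proj 2 F w ≠ 1 := by
    intro h
    rw [← map_one (proj 2 F), proj_eq_iff] at h
    obtain ⟨c, hc0, hc⟩ := h
    have := congrFun₂ hc 0 1
    simp [w] at this
    exact hc0 this.symm
  suffices H : ∃ d : GL (Fin 2) F, (d = 1 ∨ d = diagNeg) ∧ innDiag 2 F (d * g⁻¹) ∈ Cfsg.Inn (PSL 2 F) by
    obtain ⟨d, hd, l, hl⟩ := H
    refine exists_fixed_of_coset _ l ⟨proj 2 F w, hw, ?_⟩
    rw [hl, semilin_split g σ, ← mul_assoc, ← map_mul, inv_mul_cancel_right, ← semilin_split,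
      semilin_proj, proj_eq_iff]
    rcases hd with rfl | rfl
    · refine ⟨1, by simp, ?_⟩
      rw [coe_slConjHom]
      ext i j
      fin_cases i <;> fin_cases j <;> simp [w]
    · refine ⟨-1, by simp, ?_⟩
      rw [coe_slConjHom, Matrix.coe_units_inv, Matrix.inv_def]
      ext i j
      fin_cases i <;> fin_cases j <;>
        simp [w, diagNeg, Matrix.vecMul, dotProduct, Matrix.mul_apply, Fin.sum_univ_two, Matrix.adjugate_fin_two,
          Matrix.det_fin_two]
  rcases exists_sq_or_neg hn hF (Matrix.GeneralLinearGroup.det g)⁻¹ with ⟨c, hc⟩ | ⟨c, hc⟩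
  · refine ⟨1, Or.inl rfl, (GW.DGroup.innDiag_mem_inn_iff _).2 ⟨c, ?_⟩⟩
    rw [one_mul, map_inv, hc]
  · refine ⟨diagNeg, Or.inr rfl, (GW.DGroup.innDiag_mem_inn_iff _).2 ⟨c, ?_⟩⟩
    rw [map_mul, det_diagNeg, map_inv, neg_one_mul, hc]

theorem isCyclic_of_disjoint_psl {n : ℕ} (hn : 1 ≤ n) (hF : Fintype.card F = 3 ^ (2 * n + 1))
    (B : Subgroup (MulAut (PSL 2 F))) (hB : B ⊓ Cfsg.Inn (PSL 2 F) = ⊥) : IsCyclic B := by
  have triv : ∀ x : B, (x : MulAut (PSL 2 F)) ∈ Cfsg.Inn (PSL 2 F) → x = 1 := fun x hx =>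
    Subtype.ext (mem_bot.1 (hB.le ⟨x.2, hx⟩))
  have hcomm : ∀ a b : B, a * b = b * a := fun a b => by
    have h := triv (a * b * a⁻¹ * b⁻¹) (GW.KFactsProof.commutator_mem_inn _ _)
    exact commutatorElement_eq_one_iff_mul_comm.1 h
  have hker : ∀ x y : B, GW.KFactsProof.fld (x : MulAut (PSL 2 F)) = 1 →
      GW.KFactsProof.fld (y : MulAut (PSL 2 F)) = 1 → x ≠ 1 → y ≠ 1 → x * y = 1 := by
    intro x y hx hy hx1 hy1
    obtain ⟨g, hg⟩ := GW.DGroup.exists_innDiag hx
    obtain ⟨k, hk⟩ := GW.DGroup.exists_innDiag hy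
    have out : ∀ (z : B) (g : GL (Fin 2) F), (z : MulAut (PSL 2 F)) = innDiag 2 F g → z ≠ 1 →
        ∃ c : Fˣ, -Matrix.GeneralLinearGroup.det g = c ^ 2 := fun z g hz hz1 =>
      (exists_sq_or_neg hn hF _).resolve_left fun h =>
        hz1 (triv z (hz ▸ (GW.DGroup.innDiag_mem_inn_iff g).2 h))
    obtain ⟨c, hc⟩ := out x g hg hx1
    obtain ⟨d, hd⟩ := out y k hk hy1
    refine triv _ ?_
    rw [coe_mul, hg, hk, ← map_mul]
    exact (GW.DGroup.innDiag_mem_inn_iff _).2 ⟨c * d, by rw [map_mul, mul_pow, ← hc, ← hd, neg_mul_neg]⟩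
  let ρ : B →* (F ≃+* F) := GW.KFactsProof.fld.comp B.subtype
  have hρ : ∀ x : B, ρ x = GW.KFactsProof.fld (x : MulAut (PSL 2 F)) := fun _ => rfl
  haveI : IsCyclic (F ≃+* F) := GW.KFactsProof.isCyclic_ringAut
  haveI : Finite (F ≃+* F) := Finite.of_injective (fun e => (e : F → F)) DFunLike.coe_injective
  obtain ⟨⟨_, b0, rfl⟩, hgen⟩ := IsCyclic.exists_generator (α := ρ.range)
  have hodd : Odd (orderOf (ρ b0)) := by
    haveI : Fact (Nat.Prime 3) := ⟨Nat.prime_three⟩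
    have h := orderOf_dvd_natCard (ρ b0)
    rw [(card_ringAut hF (by omega)).1] at h
    exact Odd.of_dvd_nat ⟨n, rfl⟩ h
  have hmem : ∀ x : B, ∃ j : ℤ, ρ x = ρ b0 ^ j := fun x => by
    obtain ⟨j, hj⟩ := hgen ⟨ρ x, x, rfl⟩
    exact ⟨j, (congrArg Subtype.val hj).symm⟩
  by_cases hd : ∃ d : B, ρ d = 1 ∧ d ≠ 1
  · obtain ⟨d, hd, hd1⟩ := hd
    have hd2 : d * d = 1 := hker d d hd hd hd1 hd1
    have hk : ∀ x : B, ρ x = 1 → x = 1 ∨ x = d := fun x hx => by
      by_cases hx1 : x = 1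
      · exact Or.inl hx1
      · exact Or.inr (mul_right_cancel ((hker x d hx hd hx1 hd1).trans hd2.symm))
    obtain ⟨m, hm⟩ := hodd
    have hb : ρ (b0 * b0 * d) = ρ b0 ^ 2 := by rw [map_mul, map_mul, hd, mul_one, pow_two]
    have hbm : (b0 * b0 * d) ^ (2 * m + 1) = d := by
      rw [Commute.mul_pow (hcomm _ _), ← pow_two b0, ← pow_mul, mul_comm 2, pow_mul, pow_succ d,
        pow_mul d, pow_two d, hd2, one_pow, one_mul]
      rcases hk (b0 ^ (2 * m + 1)) (by rw [map_pow, ← hm, pow_orderOf_eq_one]) with h | h <;> rw [h]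
      · rw [one_pow, one_mul]
      · rw [pow_two, hd2, one_mul]
    refine ⟨⟨b0 * b0 * d, fun x => ?_⟩⟩
    obtain ⟨j, hj⟩ := hmem x
    have h1 : ρ b0 = ρ (b0 * b0 * d) ^ (m + 1) := by
      rw [hb, ← pow_mul, show 2 * (m + 1) = orderOf (ρ b0) + 1 by omega, pow_succ, pow_orderOf_eq_one, one_mul]
    have h2 : ρ (x * ((b0 * b0 * d) ^ (((m + 1 : ℕ) : ℤ) * j))⁻¹) = 1 := by
      rw [map_mul, map_inv, map_zpow, zpow_mul, zpow_natCast, ← h1, hj, mul_inv_cancel]
    rcases hk _ h2 with h | h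
    · exact mem_zpowers_iff.2 ⟨_, (mul_inv_eq_one.1 h).symm⟩
    · rw [mul_inv_eq_iff_eq_mul.1 h]
      exact mul_mem (mem_zpowers_iff.2 ⟨((2 * m + 1 : ℕ) : ℤ), by rw [zpow_natCast, hbm]⟩)
        (zpow_mem (mem_zpowers _) _)
  · push Not at hd
    exact isCyclic_of_injective ρ ((injective_iff_map_eq_one ρ).2 hd)

theorem hasSmallAut_psl {n : ℕ} (hn : 1 ≤ n) (hF : Fintype.card F = 3 ^ (2 * n + 1)) :
    HasSmallAut (PSL 2 F) :=
  ⟨exists_fixed_psl hn hF, isCyclic_of_disjoint_psl hn hF⟩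

end PSL

section Suzuki

open CfsgLib.Lie.Suzuki CfsgLib.Known.SuzukiMult CfsgLib.Known.SuzukiAut

variable {F : Type} [Field F] [Fintype F] [CharP F 2] {m : ℕ}

theorem hasSmallAut_suzuki (hF : Fintype.card F = 2 ^ (2 * m + 1)) (hm : 1 ≤ m) :
    HasSmallAut (Cfsg.Sz F m) := by
  haveI : Finite (Cfsg.Sz F m) := inferInstance
  constructor
  · intro β
    obtain ⟨γ, g, rfl⟩ := exists_inner_field hF hm β
    refine exists_fixed_of_coset _ g⁻¹ ⟨uS hF 0 1, fun h => one_ne_zero (α := F) ?_, ?_⟩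
    · exact (uS_tS_inj hF (a := 0) (b := 1) (a' := 0) (b' := 0) (t := 1) (t' := 1) (by
        rw [h, CfsgLib.Lie.Suzuki.uS_zero_zero])).2.1
    · rw [map_inv, inv_mul_cancel_left, fa_uS, map_zero, map_one]
  · intro B hB
    haveI : Fact (Nat.Prime 2) := ⟨Nat.prime_two⟩
    haveI : IsCyclic (F ≃+* F) :=
      (CfsgLib.Known.AutPSL.card_ringAut hF (by omega : 1 ≤ 2 * m + 1)).2
    haveI : IsCyclic (Cfsg.Out (Cfsg.Sz F m)) :=
      isCyclic_of_surjective ((QuotientGroup.mk' (Cfsg.Inn (Cfsg.Sz F m))).comp faHom) (by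
        intro x
        obtain ⟨φ, rfl⟩ := QuotientGroup.mk'_surjective _ x
        obtain ⟨γ, g, rfl⟩ := exists_inner_field hF hm φ
        refine ⟨γ, ?_⟩
        have hg : QuotientGroup.mk' (Cfsg.Inn (Cfsg.Sz F m)) (MulAut.conj g) = 1 :=
          (QuotientGroup.eq_one_iff _).2 (MonoidHom.mem_range.2 ⟨g, rfl⟩)
        rw [MonoidHom.comp_apply, map_mul, hg, one_mul]
        rfl)
    refine isCyclic_of_injective ((QuotientGroup.mk' (Cfsg.Inn (Cfsg.Sz F m))).comp B.subtype)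
      ((injective_iff_map_eq_one _).2 fun x hx => Subtype.ext (mem_bot.1 (hB.le ⟨x.2, ?_⟩)))
    exact (QuotientGroup.eq_one_iff _).1 hx

end Suzuki

/-- The simple groups of the classification have small automorphism groups. -/
theorem hasSmallAut_of_family {L : Type u} [Group L] [Finite L] [IsSimpleGroup L]
    (hna : ¬ IsMulCommutative L) (h : Cfsg.IsSuzukiOrPSL2OddPowerThree L) : HasSmallAut L := by
  rcases h with ⟨F, iF, iT, m, hm, hF, ⟨e⟩⟩ | ⟨F, iF, iT, n, hF, ⟨e⟩⟩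
  · haveI : Fact (Nat.Prime 2) := ⟨Nat.prime_two⟩
    haveI : CharP F 2 := charP_of_card_eq_prime_pow hF
    exact (hasSmallAut_suzuki hF hm).congr (e.trans (CfsgLib.Lie.Suzuki.equivLie hm hF).symm)
  · exact (hasSmallAut_psl (one_le_exponent hna hF e) hF).congr e

end CfsgLib.SThreeFree
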