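import Cfsg.Agent.Lib.SThreeFree.FusionFree
import Cfsg.Agent.Lib.Fusion.ComponentExists
import Cfsg.Agent.Lib.Fusion.PreimageNormal
import Cfsg.Agent.Lib.Fusion.BadNormal
import Cfsg.Agent.Lib.Fusion.Alperin

/-!
Owner: helper6. A system with a non-trivial normal subgroup is constrained if the smaller ones are.
-/

set_option autoImplicit false
set_option linter.style.haveILetI false

namespace CfsgLib.SThreeFree

open Cfsg Cfsg.FusionSystem CfsgLib.Fusion

universe u

variable {Ω : Type u} [Group Ω] {S : Subgroup Ω} [Finite S] {F : FusionSystem S}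

/-- The total number of automorphisms of the subgroups. -/
noncomputable def weight (F : FusionSystem S) : ℕ :=
  ∑ P ∈ (finite_setOf_le (S := S)).toFinset, Nat.card (F.autGroup P)

theorem weight_lt [Fact (Nat.Prime 2)] (hS : IsPGroup 2 S) (hF : F.IsSaturated 2) {E : FusionSystem S}
    (hEF : E ≤ F) (hne : ¬ F ≤ E) : weight E < weight F := by
  have hle : ∀ P : Subgroup Ω, P ≤ S → E.autGroup P ≤ F.autGroup P := fun P hP a ha =>
    (mem_autGroup_iff hP).2 (hEF P ((mem_autGroup_iff hP).1 ha))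
  obtain ⟨P, hP, hPn⟩ : ∃ P : Subgroup Ω, P ≤ S ∧ ¬ F.autGroup P ≤ E.autGroup P := by
    by_contra hall
    refine hne (alperin hS hF E fun P hP => ?_)
    by_contra hPn
    exact hall ⟨P, hP.elim (fun h => h.le) (fun h => h.1.1), hPn⟩
  refine Finset.sum_lt_sum (fun Q hQ => ?_) ⟨P, (finite_setOf_le (S := S)).mem_toFinset.2 hP, ?_⟩
  · have hQS : Q ≤ S := (finite_setOf_le (S := S)).mem_toFinset.1 hQ
    haveI := finite_mulAut_of_le (S := S) hQS
    exact Subgroup.card_le_of_le (hle Q hQS)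
  · haveI := finite_mulAut_of_le (S := S) hP
    refine lt_of_le_of_ne (Subgroup.card_le_of_le (hle P hP)) fun he => hPn ?_
    exact (Subgroup.eq_of_le_of_card_ge (hle P hP) he.ge).ge

/-- All smaller free saturated systems are constrained. -/
def Below (F : FusionSystem S) : Prop :=
  ∀ (Ω' : Type u) [Group Ω'] (S' : Subgroup Ω') [Finite S'] (E : FusionSystem S'),
    IsPGroup 2 S' → E.IsSaturated 2 → Free3 E →
    (Nat.card S' < Nat.card S ∨ (Nat.card S' = Nat.card S ∧ weight E < weight F)) → E.IsConstrained 2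

theorem isConstrained_copy {T : Subgroup Ω} (h : T = S) {E : FusionSystem T}
    (hE : (copySystem h E).IsConstrained 2) : E.IsConstrained 2 := by
  subst h
  exact hE

/-- A proper saturated subsystem is constrained. -/
theorem Below.sub [Fact (Nat.Prime 2)] (hb : Below F) (hS : IsPGroup 2 S) (hF : F.IsSaturated 2)
    (hfree : Free3 F) {T : Subgroup Ω} (hTS : T ≤ S) (E : FusionSystem T) (hE : E.IsSaturated 2)
    (hEF : E.IsSubsystemOf F) (hne : ∀ h : T = S, ¬ F ≤ copySystem h E) : E.IsConstrained 2 := by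
  haveI := finite_le hTS
  rcases eq_or_lt_of_le hTS with h | h
  · refine isConstrained_copy h (hb Ω S (copySystem h E) hS (copySystem_saturated h hE)
      (hfree.mono (N := copySystem h E) (fun P φ hφ => hEF P hφ) le_rfl) (Or.inr ⟨rfl, ?_⟩))
    exact weight_lt hS hF (fun P φ hφ => hEF P hφ) (hne h)
  · refine hb Ω T E (hS.to_le hTS) hE (hfree.mono hEF hTS) (Or.inl ?_)
    exact lt_of_le_of_ne (Subgroup.card_le_of_le hTS) fun he =>
      h.ne (Subgroup.eq_of_le_of_card_ge hTS he.ge)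

/-- The case of a central subgroup. -/
theorem constrained_of_central [Fact (Nat.Prime 2)] (hS : IsPGroup 2 S) (hF : F.IsSaturated 2)
    (hfree : Free3 F) (hb : Below F) {Z : Subgroup Ω} (hZ : F.IsCentral Z) (hZ1 : Z ≠ ⊥) :
    F.IsConstrained 2 := by
  have hZn := isCentral_isNormal hZ
  obtain ⟨Ω', _, θ, S', E, _, hS', hE, hEsat, hlt⟩ :=
    exists_factor_quotient hS hF (IsNormal.stronglyClosed hZn)
  have hEc := hb Ω' S' E hS' hEsat (hfree.factor hE) (Or.inl (hlt hZ1))
  obtain ⟨hQn', hQc'⟩ := exists_normal_centric_core hEc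
  set Q := preimageAlong θ E.core with hQ
  have hQn : F.IsNormal Q := by
    refine isNormal_preimageAlong hS hF hZn ?_ hE hQn'
    intro R hZR hRS b hb'
    refine ⟨1, S.one_mem, fun x hx => ?_⟩
    obtain ⟨ψ, -, hψP, hψZ⟩ := hZ.2 R _ ((mem_autGroup_iff hRS).1 hb')
    rw [one_mul, inv_one, mul_one]
    have h1 := hψZ ⟨x, hx⟩
    rw [show Subgroup.inclusion le_sup_right (⟨x, hx⟩ : Z) = Subgroup.inclusion le_sup_left x from
      Subtype.ext rfl, hψP] at h1
    exact h1
  obtain ⟨hTS, hθ, hrange, -⟩ := hE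
  refine ⟨hF, Q, hQn, hQn.1, fun R hR => ?_⟩
  obtain ⟨φ, hφ, hr⟩ := hR
  obtain rfl : R = Q :=
    hr.symm.trans ((StronglyClosed.weaklyClosed (IsNormal.stronglyClosed hQn)).2 φ hφ)
  intro c hc
  have hcS : c ∈ S := (mem_centralizerIn.1 hc).1
  refine (mem_preimageAlong (θ := θ) (x := ⟨c, hcS⟩)).2 (hQc'.2 _ (isConj_refl hQn'.1)
    (mem_centralizerIn.2 ⟨hrange.le ⟨_, rfl⟩, fun y hy => ?_⟩))
  obtain ⟨x, rfl⟩ := hrange.ge (hQn'.1 hy)
  rw [← map_mul, ← map_mul]
  exact congrArg θ (Subtype.ext ((mem_centralizerIn.1 hc).2 x (mem_preimageAlong.2 hy)))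

/-- A system with a non-trivial normal subgroup is constrained. -/
theorem constrained_of_core [Fact (Nat.Prime 2)] (hS : IsPGroup 2 S) (hF : F.IsSaturated 2)
    (hfree : Free3 F) (hb : Below F) (hcore : F.core ≠ ⊥) : F.IsConstrained 2 := by
  set Q := F.core with hQdef
  have hQn : F.IsNormal Q := core_isNormal
  by_contra hnc
  obtain ⟨D, hDn, hDc⟩ := exists_centralizer_normal hS (inner_isNormalIn_of_normal hS hF hQn)
  have hCS : centOf F (innerFusionSystem Q) ≤ S := hDn.1.2.2.2.1.1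
  have := finite_le hCS
  have hsub : D.IsSubsystemOf F := fun P φ hφ => (hDc P hφ).1
  have hDT : ¬ D.IsConstrained 2 := by
    intro hc
    obtain ⟨-, hcen⟩ := exists_normal_centric_core hc
    have hle : D.core ≤ Q := le_core (invariant_core_isNormal hS hF hDn.1.1 hDn.1.2.2)
    refine hnc ⟨hF, Q, hQn, hQn.1, fun R hR => ?_⟩
    obtain ⟨φ, hφ, hr⟩ := hR
    obtain rfl : R = Q :=
      hr.symm.trans ((StronglyClosed.weaklyClosed (IsNormal.stronglyClosed hQn)).2 φ hφ)
    intro c hc'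
    refine hle (hcen.2 _ (isConj_refl core_le) (mem_centralizerIn.2 ⟨?_, fun y hy => ?_⟩))
    · rwa [centOf_inner hS hF hQn]
    · exact (mem_centralizerIn.1 hc').2 y (hle hy)
  refine hDT (hb.sub hS hF hfree hCS D hDn.1.1 hsub fun h hFD => hnc ?_)
  refine constrained_of_central hS hF hfree hb (Z := Q) ⟨hQn.1, fun P φ hφ => ?_⟩ hcore
  exact (hDc P (show φ ∈ D.Hom P from hFD P hφ)).2.2.2

end CfsgLib.SThreeFree
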