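import Cfsg.Agent.Lib.SThreeFree.RowsA
import Cfsg.Agent.Lib.Fusion.FourFreeModel
import Cfsg.Agent.Lib.LocalEven.Factor.Sections
import Cfsg.Agent.Lib.Fusion.Biset.ModelExists
import Cfsg.Agent.Lib.Fusion.SubnormalConstrained

/-!
Owner: helper6. Fusion systems without the symmetric group of degree three in their automorphism groups:
subsystems, factor systems, and models.
-/

set_option autoImplicit false
set_option linter.style.haveILetI false

namespace CfsgLib.SThreeFree

open Cfsg Cfsg.FusionSystem CfsgLib.Fusion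

universe u

variable {Ω : Type u} [Group Ω] {S : Subgroup Ω} {F : FusionSystem S}

/-- No automorphism group involves the symmetric group of degree three. -/
def Free3 (F : FusionSystem S) : Prop :=
  ∀ U : Subgroup Ω, U ≤ S → ¬ Involves (Equiv.Perm (Fin 3)) (F.autGroup U)

theorem involves_three_perm_four : Involves (Equiv.Perm (Fin 3)) (Equiv.Perm (Fin 4)) :=
  LocalEven.SFreeOffender.involves_three_of_inverted (a := (Equiv.swap 0 1 : Equiv.Perm (Fin 4)))
    (y := Equiv.swap 0 1 * Equiv.swap 1 2) (by decide) (by decide) (by decide) (by decide)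

theorem not_involves_four_of_three {G : Type*} [Group G] (h : ¬ Involves (Equiv.Perm (Fin 3)) G) :
    ¬ Involves (Equiv.Perm (Fin 4)) G := by
  rintro ⟨K, R, hn, ⟨e⟩⟩
  exact h (involves_section K (R.subgroupOf K)
    (LocalEven.GoldS.involves_congr e.symm involves_three_perm_four))

theorem Free3.mono (h : Free3 F) {T : Subgroup Ω} {N : FusionSystem T} (hN : N.IsSubsystemOf F)
    (hTS : T ≤ S) : Free3 N := by
  intro P hP hi
  have hle : N.autGroup P ≤ F.autGroup P := fun a ha =>
    (mem_autGroup_iff (hP.trans hTS)).2 (hN P ((mem_autGroup_iff hP).1 ha))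
  exact h P (hP.trans hTS) (LocalEven.involves_of_section (Subgroup.inclusion hle)
    (Subgroup.inclusion_injective hle) (MonoidHom.id _) Function.surjective_id hi)

/-- Models of free systems do not involve the symmetric group of degree three. -/
theorem Free3.not_involves_model [Finite S] (hfree : Free3 F) {L : Type*} [Group L] {ι : S →* L}
    (hG : F.IsModel 2 L ι) : ¬ Involves (Equiv.Perm (Fin 3)) L := by
  haveI : Fact (Nat.Prime 2) := ⟨Nat.prime_two⟩
  rintro ⟨K, R, hn, ⟨e⟩⟩
  set π : K →* Equiv.Perm (Fin 3) := e.toMonoidHom.comp (QuotientGroup.mk' (R.subgroupOf K))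
    with hπdef
  have hπ : Function.Surjective π := e.surjective.comp (QuotientGroup.mk'_surjective _)
  have hcore := model_pCore_le hG
  have hUn := model_isNormal_coreBack hG
  set U := coreBack 2 ι with hU
  have hUS : U ≤ S := hUn.1
  have := finite_le hUS
  set jU : U →* L := ι.comp (Subgroup.inclusion hUS) with hjU
  have hlift : ∀ k : L, ∃ a ∈ F.autGroup U, (k, a) ∈ conjPairs jU := by
    intro k
    obtain ⟨b, hb, -, hbv⟩ := model_exists_aut hG hUS (model_coreBack_conj hG k)
    exact ⟨b, hb, fun z => (eq_mul_inv_iff_mul_eq.1 (hbv z)).symm⟩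
  choose act hact hactv using hlift
  have hcent := hG.2.2.2
  set Z := Subgroup.centralizer ((pCore 2 L : Subgroup L) : Set L) with hZ
  have hZn : Z.Normal := inferInstance
  have hZc : ∀ v ∈ Z, ∀ w ∈ Z, v * w = w * v := fun v hv w hw =>
    Subgroup.mem_centralizer_iff.1 hw v (hcent hv)
  have hW : ∀ k : K, (k : L) ∈ Z → π k = 1 := by
    intro k hk
    obtain ⟨m, hm⟩ := Core.isPGroup_pCore 2 L ⟨(k : L), hcent hk⟩
    have hkm : k ^ 2 ^ m = 1 := Subtype.ext (by
      rw [Subgroup.coe_pow]
      exact congrArg Subtype.val hm)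
    have hpow : π k ^ 2 ^ m = 1 := by rw [← map_pow, hkm, map_one]
    have hdec : ∀ σ : Equiv.Perm (Fin 3),
        (∀ g : Equiv.Perm (Fin 3), σ * (g * σ * g⁻¹) = g * σ * g⁻¹ * σ) → σ ^ 3 = 1 := by
      decide +kernel
    have h3 : π k ^ 3 = 1 := hdec _ fun g => by
      obtain ⟨l, rfl⟩ := hπ g
      rw [← map_inv, ← map_mul π l, ← map_mul π (l * k), ← map_mul, ← map_mul]
      exact congrArg π (Subtype.ext (hZc _ hk _ (hZn.conj_mem _ hk l)))
    exact orderOf_eq_one_iff.1 (Nat.eq_one_of_dvd_coprimes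
      ((Nat.coprime_primes Nat.prime_two Nat.prime_three).2 (by norm_num) |>.pow_left m)
      (orderOf_dvd_of_pow_eq_one hpow) (orderOf_dvd_of_pow_eq_one h3))
  refine hfree U hUS ?_
  let G₂ : Subgroup (K × MulAut U) :=
    (conjPairs jU).comap (K.subtype.prodMap (MonoidHom.id _)) ⊓
      (⊤ : Subgroup K).prod (F.autGroup U)
  let ψ : G₂ →* ↥(F.autGroup U) × Equiv.Perm (Fin 3) :=
    (((MonoidHom.snd K (MulAut U)).comp G₂.subtype).codRestrict _ fun t => t.2.2.2).prod
      (π.comp ((MonoidHom.fst K (MulAut U)).comp G₂.subtype))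
  refine LocalEven.involves_of_section ((MonoidHom.fst _ _).comp ψ.range.subtype) ?_
    ((MonoidHom.snd _ _).comp ψ.range.subtype) ?_
    ⟨⊤, ⊥, inferInstance, ⟨(QuotientGroup.quotientMulEquivOfEq
      (Subgroup.bot_subgroupOf _)).trans (QuotientGroup.quotientBot.trans Subgroup.topEquiv)⟩⟩
  · refine (injective_iff_map_eq_one _).2 ?_
    rintro ⟨_, t, rfl⟩ ht
    have ha : (t : K × MulAut U).2 = 1 := congrArg Subtype.val ht
    have hk : ((t : K × MulAut U).1 : L) ∈ Z := by
      refine Subgroup.mem_centralizer_iff.2 fun v hv => ?_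
      obtain ⟨s, rfl⟩ := hcore hv
      have h : ((t : K × MulAut U).1 : L) * jU ⟨s, mem_coreBack.2 hv⟩ =
          jU ((t : K × MulAut U).2 ⟨s, mem_coreBack.2 hv⟩) * ((t : K × MulAut U).1 : L) :=
        t.2.1 _
      rw [ha] at h
      exact h.symm
    exact Subtype.ext (Prod.ext ht (hW _ hk))
  · intro σ
    obtain ⟨k, rfl⟩ := hπ σ
    exact ⟨⟨ψ ⟨(k, act k), hactv k, trivial, hact k⟩, ⟨_, rfl⟩⟩, rfl⟩

/-- Factor systems of free systems are free. -/
theorem Free3.factor [Finite S] (hfree : Free3 F) {Ω' : Type*} [Group Ω'] {θ : S →* Ω'}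
    {T : Subgroup Ω} {S' : Subgroup Ω'} {E : FusionSystem S'} (hE : F.IsFactorSystem T θ E) :
    Free3 E := by
  obtain ⟨hTS, hθ, hS', hiff⟩ := hE
  intro P' hP'
  set R := preimageAlong θ P' with hR
  have hRS : R ≤ S := preimageAlong_le θ P'
  have := finite_le hRS
  set f : R →* P' := (θ.comp (Subgroup.inclusion hRS)).codRestrict P'
    fun x => (mem_preimageAlong (θ := θ) (x := ⟨x, hRS x.2⟩)).1 x.2 with hf
  have hfs : Function.Surjective f := fun y => by
    obtain ⟨x, hx⟩ := exists_preimage (θ := θ) (hP'.trans hS'.ge) y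
    exact ⟨x, Subtype.ext hx⟩
  have hlift : ∀ b' ∈ E.autGroup P', ∃ b ∈ F.autGroup R, ∀ z : R, f (b z) = b' (f z) := by
    intro b' hb'
    obtain ⟨-, φ, hφ, hP, hφS, hm, hv⟩ := (hiff P' _).1 ((mem_autGroup_iff hP').1 hb')
    have hr : φ.range = R := Subgroup.eq_of_le_of_card_ge
      (by
        rintro _ ⟨x, rfl⟩
        exact (mem_preimageAlong (x := ⟨φ x, hφS x⟩)).2
          ((hv x).subst (motive := (· ∈ P')) (b' _).2))
      (le_of_eq (Nat.card_congr (MonoidHom.ofInjective (F.injective_of_mem hφ)).toEquiv))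
    obtain ⟨e, he, hev⟩ := exists_iso hφ hr
    refine ⟨e, (mem_autGroup_iff_isoIn hRS).2 he, fun z => Subtype.ext ?_⟩
    refine Eq.trans ?_ (hv z).symm
    exact congrArg θ (Subtype.ext (hev z))
  let G : Subgroup (MulAut R × MulAut P') :=
    { carrier := {t | t.1 ∈ F.autGroup R ∧ t.2 ∈ E.autGroup P' ∧ ∀ z, f (t.1 z) = t.2 (f z)}
      one_mem' := ⟨one_mem _, one_mem _, fun z => rfl⟩
      mul_mem' := fun {a b} ha hb => ⟨mul_mem ha.1 hb.1, mul_mem ha.2.1 hb.2.1, fun z => by
        show f (a.1 (b.1 z)) = a.2 (b.2 (f z))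
        rw [ha.2.2, hb.2.2]⟩
      inv_mem' := fun {a} ha => ⟨inv_mem ha.1, inv_mem ha.2.1, fun z => a.2.injective (by
        show a.2 (f (a.1⁻¹ z)) = a.2 (a.2⁻¹ (f z))
        rw [← ha.2.2, MulAut.apply_inv_self, MulAut.apply_inv_self])⟩ }
  intro hi
  refine hfree R hRS (LocalEven.involves_of_section
    (((MonoidHom.fst _ _).comp G.subtype).codRestrict (F.autGroup R) fun t => t.2.1) ?_
    (((MonoidHom.snd _ _).comp G.subtype).codRestrict (E.autGroup P') fun t => t.2.2.1) ?_ hi)
  · intro s t hst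
    have h1 : (s : MulAut R × MulAut P').1 = (t : MulAut R × MulAut P').1 := congrArg Subtype.val hst
    refine Subtype.ext (Prod.ext h1 (MulEquiv.ext fun y => ?_))
    obtain ⟨z, rfl⟩ := hfs y
    rw [← s.2.2.2 z, ← t.2.2.2 z, h1]
  · intro b'
    obtain ⟨b, hb, hbv⟩ := hlift b' b'.2
    exact ⟨⟨(b, b'), hb, b'.2, hbv⟩, rfl⟩

/-- Finite groups without the symmetric group of degree three satisfy the hypotheses of the factorizations. -/
theorem local_of_free (hC : Classification.{u}) {L : Type u} [Group L] [Finite L]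
    (h : ¬ Involves (Equiv.Perm (Fin 3)) L) : LocalEven.Factor.Local L :=
  LocalEven.Factor.Local.mk' (not_involves_four_of_three h) fun K R _ _ =>
    isCompositionKGroupWith hC fun hi => h (involves_section K (R.subgroupOf K) hi)

/-- A constrained system has a model. -/
theorem exists_model [Finite S] (hS : IsPGroup 2 S) (hF : F.IsConstrained 2) :
    ∃ (M : Type u) (_ : Group M) (ι : S →* M), F.IsModel 2 M ι := by
  haveI : Fact (Nat.Prime 2) := ⟨Nat.prime_two⟩
  obtain ⟨hQn, hQc⟩ := exists_normal_centric_core hF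
  exact exists_model_of_normal_centric hS hF.1 hQn hQc

end CfsgLib.SThreeFree
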