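import Cfsg.Agent.Lib.SThreeFree.FusionCore
import Cfsg.Agent.Lib.LocalEven.Factor.StronglyClosed
import Cfsg.Agent.Lib.Fusion.AlperinGen
import Cfsg.Agent.Lib.Fusion.JGeneration
import Cfsg.Agent.Lib.Fusion.Series

/-!
Owner: helper6. A free system has a strongly closed elementary abelian subgroup, hence is constrained (S5109).
-/

set_option autoImplicit false
set_option linter.style.haveILetI false

namespace CfsgLib.SThreeFree

open Cfsg Cfsg.FusionSystem CfsgLib.Fusion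
open CfsgLib.LocalEven.Factor (zS je)

universe u

variable {Ω : Type u} [Group Ω] {S : Subgroup Ω}

theorem top_map_subtype (T : Subgroup Ω) : (⊤ : Subgroup T).map T.subtype = T := by
  rw [← MonoidHom.range_eq_map, Subgroup.range_subtype]

theorem zS_eq (T : Subgroup Ω) : (zS (⊤ : Subgroup T)).map T.subtype = zS T := by
  rw [LocalEven.Factor.zS_map _ T.subtype_injective, top_map_subtype]

theorem je_eq (T : Subgroup Ω) : (je (⊤ : Subgroup T)).map T.subtype = je T := by
  rw [LocalEven.Factor.je_map _ T.subtype_injective, top_map_subtype]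

theorem mem_map_iff' {T : Subgroup Ω} {L : Type*} [Group L] {ι : T →* L} (hinj : Function.Injective ι)
    (D : Subgroup T) (s : T) : ι s ∈ D.map ι ↔ (s : Ω) ∈ D.map T.subtype :=
  ⟨fun ⟨d, hd, he⟩ => hinj he ▸ ⟨d, hd, rfl⟩, fun ⟨d, hd, he⟩ => Subtype.ext he ▸ ⟨d, hd, rfl⟩⟩

theorem mem_zS_range {T : Subgroup Ω} {L : Type u} [Group L] {ι : T →* L} (hinj : Function.Injective ι)
    (s : T) : ι s ∈ zS ι.range ↔ (s : Ω) ∈ zS T := by
  rw [MonoidHom.range_eq_map, ← LocalEven.Factor.zS_map ι hinj, ← zS_eq T]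
  exact mem_map_iff' hinj _ s

theorem mem_je_range {T : Subgroup Ω} {L : Type u} [Group L] {ι : T →* L} (hinj : Function.Injective ι)
    (s : T) : ι s ∈ je ι.range ↔ (s : Ω) ∈ je T := by
  rw [MonoidHom.range_eq_map, ← LocalEven.Factor.je_map ι hinj, ← je_eq T]
  exact mem_map_iff' hinj _ s

theorem normalizer_le_je (T : Subgroup Ω) :
    Subgroup.normalizer (T : Set Ω) ≤ Subgroup.normalizer ((je T : Subgroup Ω) : Set Ω) := by
  intro g hg
  rw [Subgroup.mem_normalizer_iff_map_conj_eq] at hg ⊢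
  rw [LocalEven.Factor.je_map _ (MulAut.conj g).injective, hg]

theorem comm_of_mem_zS {z : Ω} (hz : z ∈ zS S) {s : Ω} (hs : s ∈ S) : s * z = z * s :=
  Subgroup.mem_centralizer_iff.1 (Subgroup.mem_inf.1 (CfsgLib.PGroups.omegaOne_le _ hz)).2 s hs

theorem zS_le (T : Subgroup Ω) : zS T ≤ T := (CfsgLib.PGroups.omegaOne_le _).trans inf_le_left

theorem zS_le_zS_of_centric {T : Subgroup Ω} (hTS : T ≤ S) (hc : ∀ c ∈ S, (∀ t ∈ T, t * c = c * t) → c ∈ T) :
    zS S ≤ zS T := by
  rw [zS, Cfsg.omegaOne, Subgroup.closure_le]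
  rintro z ⟨⟨hzS, hzC⟩, hz2⟩
  have hzT : z ∈ T := hc z hzS fun t ht => Subgroup.mem_centralizer_iff.1 hzC t (hTS ht)
  exact CfsgLib.PGroups.mem_omegaOne ⟨hzT, Subgroup.mem_centralizer_iff.2 fun t ht =>
    Subgroup.mem_centralizer_iff.1 hzC t (hTS ht)⟩ hz2

theorem zS_ne_bot' {T : Subgroup Ω} [Finite T] (hT : IsPGroup 2 T) (hT1 : T ≠ ⊥) :
    zS T ≠ ⊥ ∧ je T ≠ ⊥ := by
  haveI : Nontrivial T := (Subgroup.nontrivial_iff_ne_bot T).2 hT1
  have h := LocalEven.Factor.zS_ne_bot (hT.to_subgroup (⊤ : Subgroup T)) top_ne_bot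
  constructor
  · rw [← zS_eq, Ne, Subgroup.map_eq_bot_iff_of_injective _ T.subtype_injective]
    exact h
  · rw [← je_eq, Ne, Subgroup.map_eq_bot_iff_of_injective _ T.subtype_injective]
    exact fun e => h (le_bot_iff.1 ((LocalEven.Factor.zS_le_je _).trans e.le))

theorem isNormal_copy {T Q : Subgroup Ω} (h : T = S) {E : FusionSystem T} (hE : E.IsNormal Q) :
    (copySystem h E).IsNormal Q := by
  subst h
  exact hE

/-- An element of a model gives a map of the system. -/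
theorem model_map {T : Subgroup Ω} {E : FusionSystem T} {L : Type*} [Group L] {ι : T →* L}
    (hG : E.IsModel 2 L ι) {P : Subgroup Ω} (hP : P ≤ T) (g : L)
    (hv : ∀ x : P, g * ι ⟨x, hP x.2⟩ * g⁻¹ ∈ ι.range) :
    ∃ φ ∈ E.Hom P, ∃ hm : ∀ x : P, φ x ∈ T, ∀ x : P, ι ⟨φ x, hm x⟩ = g * ι ⟨x, hP x.2⟩ * g⁻¹ := by
  obtain ⟨-, ⟨hinj, hiff⟩, -, -⟩ := hG
  let θ : P →* T := (MonoidHom.ofInjective hinj).symm.toMonoidHom.comp
    (((MulAut.conj g).toMonoidHom.comp (ι.comp (Subgroup.inclusion hP))).codRestrict ι.range hv)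
  have hθ : ∀ x : P, ι (θ x) = g * ι ⟨x, hP x.2⟩ * g⁻¹ := fun x => by
    show ι ((MonoidHom.ofInjective hinj).symm _) = _
    rw [MonoidHom.apply_ofInjective_symm hinj]
    rfl
  exact ⟨T.subtype.comp θ, (hiff P hP _ fun x => (θ x).2).2 ⟨g, hθ⟩, fun x => (θ x).2, hθ⟩

/-- The maps preserving a subgroup normalized by `S`. -/
def presSystem (F : FusionSystem S) (X : Subgroup Ω) (hX : S ≤ Subgroup.normalizer (X : Set Ω)) :
    FusionSystem S where
  Hom P := {φ | φ ∈ F.Hom P ∧ ∀ x : P, ((x : Ω) ∈ X ↔ φ x ∈ X)}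
  le_of_mem h := F.le_of_mem h.1
  injective_of_mem h := F.injective_of_mem h.1
  conj_mem hP hg := ⟨F.conj_mem hP hg, fun x => Subgroup.mem_normalizer_iff.1 (hX hg) (x : Ω)⟩
  comp_mem := fun {_ _ φ ψ} hφ hψ h => ⟨F.comp_mem hφ.1 hψ.1 h, fun x =>
    (hφ.2 x).trans (hψ.2 ⟨φ x, h x⟩)⟩
  inv_mem := by
    intro P φ hφ
    obtain ⟨ψ, hψ, hv⟩ := F.inv_mem hφ.1
    refine ⟨ψ, ⟨hψ, ?_⟩, hv⟩
    rintro ⟨_, x, rfl⟩
    rw [hv x]
    exact (hφ.2 x).symm

/-- Conjugation paths inside a Sylow subgroup preserve what the moves preserve. -/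
theorem path_pres {L : Type u} [Group L] [Finite L] {T : Subgroup L} {Q : L → Prop}
    (hstep : ∀ (y h : L), y ∈ T →
      (h ∈ Subgroup.centralizer (zS T : Set L) ∨ h ∈ Subgroup.normalizer (je T : Set L)) →
      h⁻¹ * y * h ∈ T → Q y → Q (h⁻¹ * y * h)) {A : Set L} {k : L}
    (hp : Techniques.RelPath (LocalEven.Factor.GenStep T) A k) :
    (∀ a ∈ A, k⁻¹ * a * k ∈ T) → ∀ a ∈ A, Q a → Q (k⁻¹ * a * k) := by
  induction hp with
  | one A => intro _ a _ h; simpa using h
  | step A U x g hR hA hg ih =>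
    intro hfin a ha hQ
    obtain ⟨rfl, hx⟩ := hR
    have hfin' : ∀ b ∈ (fun a => x⁻¹ * a * x) '' A, g⁻¹ * b * g ∈ U := by
      rintro _ ⟨b, hb, rfl⟩
      have := hfin b hb
      rwa [mul_inv_rev, show g⁻¹ * x⁻¹ * b * (x * g) = g⁻¹ * (x⁻¹ * b * x) * g by group] at this
    have hsub := LocalEven.Factor.start_subset (R := LocalEven.Factor.GenStep U)
      (fun U' y h => h.1) hg hfin'
    have h1 := ih hfin' _ ⟨a, ha, rfl⟩ (hstep a x (hA ha) hx (hsub ⟨a, ha, rfl⟩) hQ)
    rwa [mul_inv_rev, show g⁻¹ * x⁻¹ * a * (x * g) = g⁻¹ * (x⁻¹ * a * x) * g by group]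

variable [Finite S] {F : FusionSystem S}

/-- Maps of a system preserving a subgroup in one direction preserve it. -/
theorem iff_of_imp {T : Subgroup Ω} {E : FusionSystem T} {X : Subgroup Ω}
    (h : ∀ (P : Subgroup Ω) (φ : P →* Ω), φ ∈ E.Hom P → ∀ x : P, (x : Ω) ∈ X → φ x ∈ X)
    {P : Subgroup Ω} {φ : P →* Ω} (hφ : φ ∈ E.Hom P) (x : P) : (x : Ω) ∈ X ↔ φ x ∈ X := by
  refine ⟨h P φ hφ x, fun hx => ?_⟩
  obtain ⟨ψ, hψ, hv⟩ := E.inv_mem hφ
  have := h _ ψ hψ ⟨φ x, x, rfl⟩ hx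
  rwa [hv x] at this

/-- The normalizers of all subgroups preserve what the centralizer of `Z` and the normalizer of `J` preserve. -/
theorem normalizer_pres [Fact (Nat.Prime 2)] (hC : Classification.{u}) (hS : IsPGroup 2 S)
    (hF : F.IsSaturated 2) (hfree : Free3 F) (hb : Below F) (hcore : F.core = ⊥) (X : Subgroup Ω)
    (hX : S ≤ Subgroup.normalizer (X : Set Ω))
    (hCpres : ∀ (P : Subgroup Ω) (φ : P →* Ω), φ ∈ F.centralizerHom (zS S) P → φ ∈ (presSystem F X hX).Hom P)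
    (hNpres : ∀ (P : Subgroup Ω) (φ : P →* Ω), φ ∈ F.normalizerHom (je S) P → φ ∈ (presSystem F X hX).Hom P)
    {n : ℕ} (hup : ∀ Q : Subgroup Ω, n < Nat.card Q → F.Hom Q ⊆ (presSystem F X hX).Hom Q) :
    ∀ (k : ℕ) (R : Subgroup Ω), Nat.card S - Nat.card (normalizerIn S R) < k → R ≠ ⊥ →
      F.IsFullyNormalized R → n < Nat.card (normalizerIn S R) →
      ∀ (A : Subgroup Ω) (φ : A →* Ω), φ ∈ F.normalizerHom R A → φ ∈ (presSystem F X hX).Hom A := by
  intro k
  induction k with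
  | zero => intro R h; omega
  | succ k ihk =>
  intro R hk hR1 hRn hnR A φ hφ
  have hRS : R ≤ S := hRn.1
  set T := normalizerIn S R with hT
  have hTS : T ≤ S := normalizerIn_le R
  have hRT : R ≤ T := le_normalizerIn hRS
  haveI := finite_le hTS
  have hsys := normSystem_isNormalizerSystem F R hRS
  set N := normSystem F R hRS with hN
  have hNc : N.IsConstrained 2 := hb.sub hS hF hfree hTS N (normalizerSystem_saturated hS hF hRn hsys)
    (fun P ψ hψ => normalizerSystem_le hsys hψ) fun h hFN => hR1 <| by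
      have hn : F.IsNormal R := ⟨hRS, fun P ψ hψ => (show ψ ∈ F.normalizerHom R P from hFN P hψ).2.2.2⟩
      exact le_bot_iff.1 (hcore ▸ le_core hn)
  obtain ⟨L, _, ι, hG⟩ := exists_model (hS.to_le hTS) hNc
  haveI := hG.1
  have hloc := local_of_free hC ((hfree.mono (N := N) (fun P ψ hψ => normalizerSystem_le hsys hψ) hTS).not_involves_model hG)
  have hinj : Function.Injective ι := hG.2.1.1
  obtain ⟨PL, hPL⟩ := hG.2.2.1
  have hNS : T ≤ Subgroup.normalizer (T : Set Ω) := Subgroup.le_normalizer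
  refine ⟨hφ.1, iff_of_imp (E := N) (fun P ψ hψ x hx => ?_) hφ⟩
  obtain ⟨g, hg⟩ := (hG.2.1.2 P (hom_le hψ) ψ (hom_apply_mem hψ)).1 hψ
  have hcent : ∀ c ∈ S, (∀ t ∈ T, t * c = c * t) → c ∈ T := fun c hc h =>
    ⟨hc, Subgroup.centralizer_le_normalizer _ (Subgroup.mem_centralizer_iff.2 fun r hr => h r (hRT hr))⟩
  -- the moves preserve `X`
  have hstep : ∀ (y h : L), y ∈ ι.range →
      (h ∈ Subgroup.centralizer (zS ι.range : Set L) ∨ h ∈ Subgroup.normalizer (je ι.range : Set L)) →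
      h⁻¹ * y * h ∈ ι.range → (∃ s : T, ι s = y ∧ (s : Ω) ∈ X) →
      ∃ s : T, ι s = h⁻¹ * y * h ∧ (s : Ω) ∈ X := by
    rintro _ h - hh hy' ⟨s, rfl, hsX⟩
    rcases hh with hh | hh
    · set P1 := Subgroup.zpowers (s : Ω) ⊔ zS S with hP1
      have hzT : zS S ≤ zS T := zS_le_zS_of_centric hTS hcent
      have hfix : ∀ z : T, (z : Ω) ∈ zS S → h⁻¹ * ι z * h⁻¹⁻¹ = ι z := fun z hz => by
        have h1 := Subgroup.mem_centralizer_iff.1 hh (ι z) ((mem_zS_range hinj z).2 (hzT hz))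
        rw [inv_inv, mul_assoc, h1, ← mul_assoc, inv_mul_cancel, one_mul]
      have hP1T : P1 ≤ T := sup_le (Subgroup.zpowers_le.2 s.2) (hzT.trans (zS_le T))
      have hD : P1 ≤ ((ι.range.comap (MulAut.conj h⁻¹).toMonoidHom).comap ι).map T.subtype :=
        sup_le (Subgroup.zpowers_le.2 ⟨s, by
            show h⁻¹ * ι s * h⁻¹⁻¹ ∈ ι.range
            rwa [inv_inv], rfl⟩)
          fun z hz => ⟨⟨z, (zS_le T) (hzT hz)⟩, ⟨⟨z, (zS_le T) (hzT hz)⟩, (hfix _ hz).symm⟩, rfl⟩
      obtain ⟨χ, hχ, hm, hv⟩ := model_map hG hP1T h⁻¹ (fun x => by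
        obtain ⟨d, hd, hdx⟩ := hD x.2
        rw [show (⟨(x : Ω), hP1T x.2⟩ : T) = d from Subtype.ext hdx.symm]
        exact hd)
      have hP1S : P1 ≤ centralizerIn S (zS S) := fun y hy => mem_centralizerIn.2
        ⟨hTS (hP1T hy), fun z hz => (comm_of_mem_zS hz (hTS (hP1T hy))).symm⟩
      have hle : P1 ⊔ zS S ≤ P1 := sup_le le_rfl le_sup_right
      have hmemC : χ ∈ F.centralizerHom (zS S) P1 := by
        refine ⟨normalizerSystem_le hsys hχ, hP1S, fun x => mem_centralizerIn.2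
          ⟨hTS (hm x), fun z hz => (comm_of_mem_zS hz (hTS (hm x))).symm⟩,
          χ.comp (Subgroup.inclusion hle), restrict_mem (normalizerSystem_le hsys hχ) hle,
          fun x => rfl, fun z => ?_⟩
        have h1 := hv ⟨z, Subgroup.mem_sup_right z.2⟩
        rw [hfix ⟨z, _⟩ z.2] at h1
        exact congrArg Subtype.val (hinj h1)
      have hs1 : (s : Ω) ∈ P1 := Subgroup.mem_sup_left (Subgroup.mem_zpowers _)
      refine ⟨⟨χ ⟨s, hs1⟩, hm _⟩, ?_, ((hCpres P1 χ hmemC).2 ⟨s, hs1⟩).1 hsX⟩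
      rw [hv ⟨s, hs1⟩, inv_inv]
    · set R' := je T with hR'
      set P1 := Subgroup.zpowers (s : Ω) ⊔ R' with hP1
      have hR'T : R' ≤ T := LocalEven.Factor.je_le_self T
      have hconj : ∀ r : T, (r : Ω) ∈ R' → h⁻¹ * ι r * h⁻¹⁻¹ ∈ je ι.range := fun r hr =>
        (Subgroup.mem_normalizer_iff.1 (inv_mem hh) (ι r)).1 ((mem_je_range hinj r).2 hr)
      have hjle : je ι.range ≤ ι.range := LocalEven.Factor.je_le_self _
      have hP1T : P1 ≤ T := sup_le (Subgroup.zpowers_le.2 s.2) hR'T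
      have hD : P1 ≤ ((ι.range.comap (MulAut.conj h⁻¹).toMonoidHom).comap ι).map T.subtype :=
        sup_le (Subgroup.zpowers_le.2 ⟨s, by
            show h⁻¹ * ι s * h⁻¹⁻¹ ∈ ι.range
            rwa [inv_inv], rfl⟩)
          fun r hr => ⟨⟨r, hR'T hr⟩, hjle (hconj _ hr), rfl⟩
      obtain ⟨χ, hχ, hm, hv⟩ := model_map hG hP1T h⁻¹ (fun x => by
        obtain ⟨d, hd, hdx⟩ := hD x.2
        rw [show (⟨(x : Ω), hP1T x.2⟩ : T) = d from Subtype.ext hdx.symm]
        exact hd)
      have hχF := normalizerSystem_le hsys hχ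
      have hTN : T ≤ normalizerIn S R' := fun t ht => ⟨hTS ht, normalizer_le_je T (hNS ht)⟩
      have hle : P1 ⊔ R' ≤ P1 := sup_le le_rfl le_sup_right
      have hmemN : χ ∈ F.normalizerHom R' P1 := by
        refine ⟨hχF, hP1T.trans hTN, fun x => hTN (hm x),
          χ.comp (Subgroup.inclusion hle), restrict_mem hχF hle, fun x => rfl, ?_⟩
        haveI := finite_le (hR'T.trans hTS)
        refine Subgroup.eq_of_le_of_card_ge ?_ ?_
        · rintro _ ⟨r, hr, rfl⟩
          refine (mem_je_range hinj ⟨χ _, hm _⟩).1 ?_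
          rw [hv]
          exact hconj _ hr
        · exact (card_img (F.injective_of_mem (restrict_mem hχF hle)) le_sup_right).ge
      have hs1 : (s : Ω) ∈ P1 := Subgroup.mem_sup_left (Subgroup.mem_zpowers _)
      refine ⟨⟨χ ⟨s, hs1⟩, hm _⟩, by rw [hv ⟨s, hs1⟩, inv_inv],
        ((?_ : χ ∈ (presSystem F X hX).Hom P1).2 ⟨s, hs1⟩).1 hsX⟩
      rcases eq_or_lt_of_le hTS with hTeq | hTlt
      · have e : R' = je S := by rw [hR', hTeq]
        have hm' : χ ∈ F.normalizerHom (je S) P1 := e ▸ hmemN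
        exact hNpres P1 χ hm'
      · have hlt : Nat.card T < Nat.card (normalizerIn S R') := by
          haveI := finite_le (normalizerIn_le (S := S) R')
          refine lt_of_lt_of_le ?_ (Subgroup.card_le_of_le (H := normalizerIn S T) fun x hx =>
            ⟨hx.1, normalizer_le_je T hx.2⟩)
          haveI := finite_le (normalizerIn_le (S := S) T)
          have hlt2 := lt_normalizerIn hS hTlt
          exact lt_of_le_of_ne (Subgroup.card_le_of_le hlt2.le) fun he =>
            hlt2.ne (Subgroup.eq_of_le_of_card_ge hlt2.le he.ge)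
        obtain ⟨R'', hconj', h1, h2, hR''n⟩ := IsSaturated.exists_rep hS hF (hR'T.trans hTS)
        obtain ⟨f, hf, hfm, hfY⟩ := exists_normalizer_map hS h1 h2 hconj'
        have hcard := card_normalizerIn_le_of_map hf hfm
        refine mem_of_transport hf (hup _ (hnR.trans hlt) hf) hfm hfY (hR'T.trans hTS) ?_ hmemN
        have hR'ne : R' ≠ ⊥ := (zS_ne_bot' (hS.to_le hTS) fun h => hR1 (le_bot_iff.1 (h ▸ hRT))).2
        have hle'' : Nat.card (normalizerIn S R'') ≤ Nat.card S :=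
          Subgroup.card_le_of_le (normalizerIn_le R'')
        refine ihk R'' (by omega) (fun e => hR'ne ?_) hR''n (by omega)
        haveI := finite_le (hR'T.trans hTS)
        exact Subgroup.eq_bot_of_card_eq _ (by rw [isConj_card hconj', e, Subgroup.card_bot])
  -- the path
  have hxT : (x : Ω) ∈ T := hom_le hψ x.2
  set a := ι ⟨x, hxT⟩ with ha
  have hga : g⁻¹⁻¹ * a * g⁻¹ = ι ⟨ψ x, hom_apply_mem hψ x⟩ := by rw [inv_inv]; exact (hg x).symm
  obtain ⟨g', hp, he⟩ := LocalEven.Factor.generated (Nat.card L) L le_rfl hloc PL {a} g⁻¹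
    (by rintro _ rfl; exact hPL.ge ⟨_, rfl⟩) (by rintro _ rfl; rw [hga]; exact hPL.ge ⟨_, rfl⟩)
  rw [hPL] at hp
  have hmain := path_pres (Q := fun y => ∃ s : T, ι s = y ∧ (s : Ω) ∈ X)
    (fun y h hy hh hy' hQ => hstep y h hy hh hy' hQ) hp
    (by rintro _ rfl; rw [← he a rfl, hga]; exact ⟨_, rfl⟩) a rfl ⟨⟨x, hxT⟩, rfl, hx⟩
  rw [← he a rfl, hga] at hmain
  obtain ⟨s, hs, hsX⟩ := hmain
  have := congrArg Subtype.val (hinj hs)
  exact (show (s : Ω) = ψ x from this) ▸ hsX

/-- With trivial core there is a strongly closed elementary abelian subgroup. -/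
theorem false_of_core_bot [Fact (Nat.Prime 2)] (hC : Classification.{u}) (hS : IsPGroup 2 S)
    (hF : F.IsSaturated 2) (hfree : Free3 F) (hb : Below F) (hS1 : S ≠ ⊥) (hcore : F.core = ⊥) :
    False := by
  obtain ⟨hZ1, hJ1⟩ := zS_ne_bot' hS hS1
  have hZS : zS S ≤ S := zS_le S
  have hJS : je S ≤ S := LocalEven.Factor.je_le_self S
  have hCS : centralizerIn S (zS S) = S := le_antisymm (centralizerIn_le _) fun g hg =>
    mem_centralizerIn.2 ⟨hg, fun z hz => (comm_of_mem_zS hz hg).symm⟩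
  have hNS : normalizerIn S (je S) = S :=
    inf_eq_left.2 (Subgroup.le_normalizer.trans (normalizer_le_je S))
  -- the centralizer of `Z`
  have hfc : F.IsFullyCentralized (zS S) := ⟨hZS, fun R _ => by
    rw [hCS]; exact Subgroup.card_le_of_le (centralizerIn_le R)⟩
  set C := copySystem hCS (centSystem F (zS S) hZS) with hCdef
  have hCF : C.IsSubsystemOf F := fun P φ hφ => hφ.1
  have hCc : C.IsConstrained 2 := hb.sub hS hF hfree le_rfl C
    (copySystem_saturated hCS (centralizerSystem_saturated hS hF hfc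
      (centSystem_isCentralizerSystem F _ hZS))) hCF fun h hFC => hZ1 (le_bot_iff.1 (hcore ▸
        le_core (isCentral_isNormal
          ⟨hZS, fun P φ hφ => (show φ ∈ F.centralizerHom (zS S) P from hFC P hφ).2.2.2⟩)))
  obtain ⟨L, _, ιL, hL⟩ := exists_model hS hCc
  haveI := hL.1
  have hlocL := local_of_free hC ((hfree.mono (N := C) hCF le_rfl).not_involves_model hL)
  -- the normalizer of `J`
  have hfn : F.IsFullyNormalized (je S) := ⟨hJS, fun R _ => by
    rw [hNS]; exact Subgroup.card_le_of_le (normalizerIn_le R)⟩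
  have hNsys := normSystem_isNormalizerSystem F (je S) hJS
  set N := copySystem hNS (normSystem F (je S) hJS) with hNdef
  have hNF : N.IsSubsystemOf F := fun P φ hφ => hφ.1
  have hNc : N.IsConstrained 2 := hb.sub hS hF hfree le_rfl N
    (copySystem_saturated hNS (normalizerSystem_saturated hS hF hfn hNsys)) hNF fun h hFN => hJ1
      (le_bot_iff.1 (hcore ▸ le_core
        ⟨hJS, fun P φ hφ => (show φ ∈ F.normalizerHom (je S) P from hFN P hφ).2.2.2⟩))
  obtain ⟨M, _, ιM, hM⟩ := exists_model hS hNc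
  haveI := hM.1
  have hlocM := local_of_free hC ((hfree.mono (N := N) hNF le_rfl).not_involves_model hM)
  have hJn : N.IsNormal (je S) := isNormal_copy hNS (normalizerSystem_isNormal hJS hNsys)
  have hiM : Function.Injective ιM := hM.2.1.1
  have hiL : Function.Injective ιL := hL.2.1.1
  obtain ⟨PM, hPM⟩ := hM.2.2.1
  obtain ⟨PL, hPL⟩ := hL.2.2.1
  -- `X`
  set Nm := Subgroup.normalizer ((je (PM : Subgroup M) : Subgroup M) : Set M) with hNm
  have hmemM : ∀ m : M, m ∈ Nm := by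
    have hhalf : ∀ (m v : M), v ∈ je ιM.range → m * v * m⁻¹ ∈ je ιM.range := by
      intro m v hv
      obtain ⟨s, rfl⟩ := LocalEven.Factor.je_le_self _ hv
      obtain ⟨α, -, hα⟩ := model_action hM hJn m
      have h1 := hα ⟨s, (mem_je_range hiM s).1 hv⟩
      rw [show Subgroup.inclusion hJn.1 ⟨(s : Ω), (mem_je_range hiM s).1 hv⟩ = s from Subtype.ext rfl] at h1
      rw [h1, mul_inv_cancel_right]
      exact (mem_je_range hiM _).2 (α _).2
    intro m
    rw [hNm, hPM]
    refine Subgroup.mem_normalizer_iff.2 fun v => ⟨hhalf m v, fun hv => ?_⟩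
    have := hhalf m⁻¹ _ hv
    simpa [mul_assoc] using this
  set A := (Subgroup.normalClosure (((zS (PM : Subgroup M)).subgroupOf Nm : Subgroup ↥Nm) : Set ↥Nm)).map
    Nm.subtype with hA
  have hcand := LocalEven.Factor.cand_of_normalClosure hlocM PM hNm hA
  have hzA : zS (PM : Subgroup M) ≤ A := fun z hz =>
    ⟨⟨z, hmemM z⟩, Subgroup.le_normalClosure hz, rfl⟩
  set X0 := A.comap ιM with hX0
  set X := X0.map S.subtype with hXdef
  have hmemX : ∀ s : S, (s : Ω) ∈ X ↔ ιM s ∈ A := fun s =>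
    ⟨fun ⟨d, hd, he⟩ => Subtype.ext he ▸ hd, fun h => ⟨s, h, rfl⟩⟩
  have hAM : ∀ (m : M), ∀ a ∈ A, m * a * m⁻¹ ∈ A := fun m a ha =>
    (Subgroup.mem_normalizer_iff.1 (hcand.jnorm (hmemM m)) a).1 ha
  have hXn : S ≤ Subgroup.normalizer (X : Set Ω) := by
    have hhalf : ∀ g ∈ S, ∀ v ∈ X, g * v * g⁻¹ ∈ X := by
      rintro g hg _ ⟨d, hd, rfl⟩
      refine ⟨⟨g, hg⟩ * d * ⟨g, hg⟩⁻¹, ?_, rfl⟩
      show ιM _ ∈ A
      rw [map_mul, map_mul, map_inv]
      exact hAM _ _ hd
    intro g hg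
    refine Subgroup.mem_normalizer_iff.2 fun v => ⟨hhalf g hg v, fun hv => ?_⟩
    have := hhalf g⁻¹ (inv_mem hg) _ hv
    simpa [mul_assoc] using this
  have hXA : X0.map ιM = A := Subgroup.map_comap_eq_self (hcand.le.trans hPM.le)
  have hXe : Cfsg.IsElementaryAbelian 2 X0 := PLocal.elementary_comap ιM hiM hcand.elem
  -- preservation in the normalizer of `J`
  have hNpres : ∀ (P : Subgroup Ω) (φ : P →* Ω), φ ∈ F.normalizerHom (je S) P →
      φ ∈ (presSystem F X hXn).Hom P := by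
    intro P φ hφ
    refine ⟨hφ.1, iff_of_imp (E := N) (fun Q ψ hψ x hx => ?_) (show φ ∈ N.Hom P from hφ)⟩
    obtain ⟨m, hm⟩ := (hM.2.1.2 Q (hom_le hψ) ψ (hom_apply_mem hψ)).1 hψ
    refine (hmemX ⟨ψ x, hom_apply_mem hψ x⟩).2 ?_
    rw [hm x]
    exact hAM m _ ((hmemX ⟨x, hom_le hψ x.2⟩).1 hx)
  -- a candidate in the centralizer of `Z`
  have hXL : X0.map ιL ≤ (PL : Subgroup L) := hPL ▸ Subgroup.map_le_range _ _
  have hcandL : LocalEven.Factor.Cand (PL : Subgroup L) (X0.map ιL) := by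
    refine ⟨hXL, PLocal.elementary_map ιL hXe, ?_, ?_, ?_⟩
    · rw [hPL]
      rintro _ ⟨t, rfl⟩
      have hhalf : ∀ (t : S) (v : L), v ∈ X0.map ιL → ιL t * v * (ιL t)⁻¹ ∈ X0.map ιL := by
        rintro t _ ⟨d, hd, rfl⟩
        refine ⟨t * d * t⁻¹, ?_, by rw [map_mul, map_mul, map_inv]⟩
        show ιM _ ∈ A
        rw [map_mul, map_mul, map_inv]
        exact hAM _ _ hd
      refine Subgroup.mem_normalizer_iff.2 fun v => ⟨hhalf t v, fun hv => ?_⟩
      have := hhalf t⁻¹ _ hv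
      simpa [mul_assoc] using this
    · rw [hPL, MonoidHom.range_eq_map, LocalEven.Factor.eProp_map_iff ιL hiL,
        ← LocalEven.Factor.eProp_map_iff ιM hiM, ← MonoidHom.range_eq_map, hXA, ← hPM]
      exact hcand.eprop
    · rw [hPL]
      have hhalf : ∀ l ∈ Subgroup.normalizer (je ιL.range : Set L), ∀ v ∈ X0.map ιL,
          l * v * l⁻¹ ∈ X0.map ιL := by
        rintro l hl _ ⟨d, hd, rfl⟩
        have hdJ : (d : Ω) ∈ je S := (mem_je_range hiM d).1 (by
          rw [← hPM]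
          have hAJ : A ≤ je (PM : Subgroup M) := by
            rw [hA, Subgroup.map_le_iff_le_comap]
            haveI : ((je (PM : Subgroup M)).subgroupOf Nm).Normal :=
              Subgroup.normal_subgroupOf_of_le_normalizer le_rfl
            exact Subgroup.normalClosure_le_normal (N := (je (PM : Subgroup M)).subgroupOf Nm)
              fun z hz => LocalEven.Factor.zS_le_je _ hz
          exact hAJ hd)
        have hjle : je ιL.range ≤ ιL.range := LocalEven.Factor.je_le_self _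
        have hconj : ∀ r : je S, l * ιL ⟨r, hJS r.2⟩ * l⁻¹ ∈ je ιL.range := fun r =>
          (Subgroup.mem_normalizer_iff.1 hl _).1 ((mem_je_range hiL ⟨r, hJS r.2⟩).2 r.2)
        obtain ⟨χ, hχ, hm, hv⟩ := model_map hL hJS l fun r => hjle (hconj r)
        have hmemN : χ ∈ F.normalizerHom (je S) (je S) := by
          have hle : je S ⊔ je S ≤ je S := sup_le le_rfl le_rfl
          refine ⟨hCF _ hχ, hJS.trans hNS.ge, fun r => hNS.ge (hm r), χ.comp (Subgroup.inclusion hle),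
            restrict_mem (hCF _ hχ) hle, fun r => rfl, ?_⟩
          haveI := finite_le hJS
          refine Subgroup.eq_of_le_of_card_ge ?_ ?_
          · rintro _ ⟨r, hr, rfl⟩
            refine (mem_je_range hiL ⟨χ _, hm _⟩).1 ?_
            rw [hv]
            exact hconj _
          · exact (card_img (F.injective_of_mem (restrict_mem (hCF _ hχ) hle)) le_sup_right).ge
        have h1 := ((hNpres _ χ hmemN).2 ⟨d, hdJ⟩).1 ((hmemX d).2 hd)
        refine ⟨⟨χ ⟨d, hdJ⟩, hm _⟩, (hmemX ⟨χ ⟨d, hdJ⟩, hm _⟩).1 h1, ?_⟩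
        rw [hv ⟨d, hdJ⟩]
      intro l hl
      refine Subgroup.mem_normalizer_iff.2 fun v => ⟨hhalf l hl v, fun hv => ?_⟩
      have := hhalf l⁻¹ (inv_mem hl) _ hv
      simpa [mul_assoc] using this
  have hCpres : ∀ (P : Subgroup Ω) (φ : P →* Ω), φ ∈ F.centralizerHom (zS S) P →
      φ ∈ (presSystem F X hXn).Hom P := by
    intro P φ hφ
    refine ⟨hφ.1, iff_of_imp (E := C) (fun Q ψ hψ x hx => ?_) (show φ ∈ C.Hom P from hφ)⟩
    obtain ⟨l, hl⟩ := (hL.2.1.2 Q (hom_le hψ) ψ (hom_apply_mem hψ)).1 hψ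
    have h1 := LocalEven.Factor.closed (Nat.card L) L le_rfl hlocL PL _ hcandL l⁻¹
      (ιL ⟨x, hom_le hψ x.2⟩) ⟨⟨x, hom_le hψ x.2⟩, (hmemX ⟨x, hom_le hψ x.2⟩).1 hx, rfl⟩
      (by rw [inv_inv, ← hl x]; exact hPL.ge ⟨_, rfl⟩)
    rw [inv_inv, ← hl x] at h1
    obtain ⟨d, hd, he⟩ := h1
    exact (hmemX ⟨ψ x, hom_apply_mem hψ x⟩).2 (hiL he ▸ hd)
  -- all maps preserve `X`
  have hle : F ≤ presSystem F X hXn := by
    refine alperin_gen hS hF _ (fun a ha => ?_) fun P hPS hess hup a ha => ?_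
    · have haF := (mem_autGroup_iff le_rfl).1 ha
      refine (mem_autGroup_iff le_rfl).2 (hNpres S _ ?_)
      have hle : S ⊔ je S ≤ S := sup_le le_rfl hJS
      refine ⟨haF, hNS.ge, fun x => hNS.ge (a x).2, (S.subtype.comp a.toMonoidHom).comp
        (Subgroup.inclusion hle), restrict_mem haF hle, fun x => rfl, ?_⟩
      haveI := finite_le hJS
      refine Subgroup.eq_of_le_of_card_ge ?_ ?_
      · rintro _ ⟨r, hr, rfl⟩
        have hr' : (⟨r, hle r.2⟩ : S) ∈ je (⊤ : Subgroup S) := by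
          obtain ⟨d, hd, he⟩ := (je_eq S).ge (Subgroup.mem_subgroupOf.1 hr)
          have e : d = (⟨r, hle r.2⟩ : S) := Subtype.ext he
          exact e ▸ hd
        refine (je_eq S).le ⟨a ⟨r, hle r.2⟩, ?_, rfl⟩
        have h2 : (je (⊤ : Subgroup S)).map a.toMonoidHom = je (⊤ : Subgroup S) := by
          rw [LocalEven.Factor.je_map _ a.injective, Subgroup.map_top_of_surjective _ a.surjective]
        exact h2.le ⟨_, hr', rfl⟩
      · exact (card_img (F.injective_of_mem (restrict_mem haF hle)) le_sup_right).ge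
    · have hP := hPS.le
      have haF := (mem_autGroup_iff hP).1 ha
      refine Subgroup.mem_sup_left ((mem_autGroup_iff hP).2 ?_)
      have hlt : Nat.card P < Nat.card (normalizerIn S P) := by
        haveI := finite_le (normalizerIn_le (S := S) P)
        have h2 := lt_normalizerIn hS hPS
        exact lt_of_le_of_ne (Subgroup.card_le_of_le h2.le) fun he =>
          h2.ne (Subgroup.eq_of_le_of_card_ge h2.le he.ge)
      refine normalizer_pres hC hS hF hfree hb hcore X hXn hCpres hNpres hup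
        (Nat.card S - Nat.card (normalizerIn S P) + 1) P (Nat.lt_succ_self _) (fun h => hS1 ?_)
        hess.2.1 hlt P _ ?_
      · subst h
        refine le_bot_iff.1 fun c hc => hess.1.2 _ (isConj_refl hP) (mem_centralizerIn.2 ⟨hc, ?_⟩)
        intro y hy
        rw [Subgroup.mem_bot.1 hy, one_mul, mul_one]
      · have hle : P ⊔ P ≤ P := sup_le le_rfl le_rfl
        refine ⟨haF, le_normalizerIn hP, fun x => le_normalizerIn hP (a x).2,
          (P.subtype.comp a.toMonoidHom).comp (Subgroup.inclusion hle), restrict_mem haF hle,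
          fun x => rfl, ?_⟩
        haveI := finite_le hP
        refine Subgroup.eq_of_le_of_card_ge ?_ ?_
        · rintro _ ⟨x, -, rfl⟩
          exact (a _).2
        · exact (card_img (F.injective_of_mem (restrict_mem haF hle)) le_sup_right).ge
  have hXS : X ≤ S := Subgroup.map_subtype_le _
  have hsc : F.StronglyClosed X := ⟨hXS, fun R hR φ hφ x => ((hle R hφ).2 x).1 (hR x.2)⟩
  have hnorm := isNormal_of_stronglyClosed_abelian hS hF hsc (PLocal.elementary_map S.subtype hXe).1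
  have hX1 : X ≠ ⊥ := by
    intro h
    obtain ⟨z, hz1⟩ := Subgroup.ne_bot_iff_exists_ne_one.1 hZ1
    have hmem : (⟨(z : Ω), hZS z.2⟩ : S) ∈ X0 := hzA (by
      rw [hPM]
      exact (mem_zS_range hiM _).2 z.2)
    have h2 : (z : Ω) ∈ X := ⟨_, hmem, rfl⟩
    rw [h, Subgroup.mem_bot] at h2
    exact hz1 (Subtype.ext h2)
  exact hX1 (le_bot_iff.1 (hcore ▸ le_core hnorm))

/-- Free saturated systems over 2-groups are constrained. -/
theorem constrained (hC : Classification.{u}) :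
    ∀ (Ω : Type u) [Group Ω] (S : Subgroup Ω) [Finite S] (F : FusionSystem S),
      IsPGroup 2 S → F.IsSaturated 2 → Free3 F → F.IsConstrained 2 := by
  haveI : Fact (Nat.Prime 2) := ⟨Nat.prime_two⟩
  suffices H : ∀ (n m : ℕ) (Ω : Type u) [Group Ω] (S : Subgroup Ω) [Finite S] (F : FusionSystem S),
      Nat.card S = n → weight F = m → IsPGroup 2 S → F.IsSaturated 2 → Free3 F → F.IsConstrained 2 from
    fun Ω _ S _ F => H _ _ Ω S F rfl rfl
  intro n
  induction n using Nat.strong_induction_on with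
  | _ n ihn =>
  intro m
  induction m using Nat.strong_induction_on with
  | _ m ihm =>
  intro Ω _ S _ F hn hm hS hF hfree
  have hb : Below F := by
    intro Ω' _ S' _ E hS' hE hE3 h
    rcases h with h | ⟨h1, h2⟩
    · exact ihn _ (hn ▸ h) _ Ω' S' E rfl rfl hS' hE hE3
    · exact ihm _ (hm ▸ h2) Ω' S' E (h1.trans hn) rfl hS' hE hE3
  by_cases hcore : F.core = ⊥
  · by_cases hS1 : S = ⊥
    · refine ⟨hF, ⊥, isNormal_bot, bot_le, fun R hR c hc => ?_⟩
      obtain ⟨φ, hφ, rfl⟩ := hR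
      have hc1 : c ∈ S := (mem_centralizerIn.1 hc).1
      rw [hS1, Subgroup.mem_bot] at hc1
      rw [hc1]
      exact one_mem _
    · exact (false_of_core_bot hC hS hF hfree hb hS1 hcore).elim
  · exact constrained_of_core hS hF hfree hb hcore

end CfsgLib.SThreeFree
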