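import Cfsg.Agent.Lib.Core.FPFSymThreeBasic
import Cfsg.Agent.Lib.Core.Carter
import Mathlib.GroupTheory.SemidirectProduct

/-!
Owner: helper6. Fixed points of a quotient by a solvable invariant subgroup, for operators generated by a
normal subgroup of coprime order and a nilpotent subgroup.
-/

set_option autoImplicit false
set_option linter.style.haveILetI false

namespace CfsgLib.SThreeFree

open Subgroup

universe u v

variable {G : Type u} [Group G] [Finite G] {A : Type v} [Group A] [Finite A]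

/-- A fixed coset of a solvable invariant subgroup contains a fixed point; so it is the trivial coset. -/
theorem mem_of_fixed_coset (φ : A →* MulAut G) (hfpf : ∀ g : G, (∀ a, φ a g = g) → g = 1)
    (K H : Subgroup A) [K.Normal] [Group.IsNilpotent H] (hsup : K ⊔ H = ⊤)
    (hcop : (Nat.card K).Coprime (Nat.card G)) (R : Subgroup G) (hR : ∀ a, ∀ r ∈ R, φ a r ∈ R)
    (hs : Group.IsSolvable R) (g : G) (hg : ∀ a, g⁻¹ * φ a g ∈ R) : g ∈ R := by
  obtain ⟨n, hn, hgK⟩ := Core.FPFSymThree.exists_fixed_in_coset (φ.comp K.subtype) R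
    (fun k r hr => hR _ r hr) (hcop.coprime_dvd_right R.card_subgroup_dvd_card) hs g (fun k => hg _)
  obtain ⟨g', hg'⟩ : ∃ g', g' = g * n := ⟨_, rfl⟩
  replace hgK : ∀ k ∈ K, φ k g' = g' := fun k hk => hg' ▸ hgK ⟨k, hk⟩
  suffices g' ∈ R by
    rw [hg'] at this
    simpa using mul_mem this (inv_mem hn)
  have hgA : ∀ a, g'⁻¹ * φ a g' ∈ R := fun a => by
    rw [hg', map_mul, mul_inv_rev,
      show n⁻¹ * g⁻¹ * (φ a g * φ a n) = n⁻¹ * (g⁻¹ * φ a g) * φ a n by group]
    exact mul_mem (mul_mem (inv_mem hn) (hg a)) (hR a n hn)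
  let C : Subgroup G :=
    { carrier := {r | ∀ k ∈ K, φ k r = r}
      mul_mem' := fun ha hb k hk => by rw [map_mul, ha k hk, hb k hk]
      one_mem' := fun k _ => map_one _
      inv_mem' := fun ha k hk => by rw [map_inv, ha k hk] }
  have hC : ∀ a, ∀ r ∈ C, φ a r ∈ C := fun a r hr k hk => by
    have h := hr _ (Subgroup.Normal.conj_mem' inferInstance k hk a)
    rw [map_mul, map_mul, MulAut.mul_apply, MulAut.mul_apply, map_inv] at h
    have h2 := congrArg (φ a) h
    rwa [MulAut.apply_inv_self] at h2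
  set R' : Subgroup G := R ⊓ C with hR'
  have hinv : ∀ a, ∀ r ∈ R', φ a r ∈ R' := fun a r hr => ⟨hR a r hr.1, hC a r hr.2⟩
  let act : H → MulAut R' := fun h =>
    { toFun := fun r => ⟨φ (h : A) r, hinv _ _ r.2⟩
      invFun := fun r => ⟨φ ((h : A)⁻¹) r, hinv _ _ r.2⟩
      left_inv := fun r => Subtype.ext (by simp)
      right_inv := fun r => Subtype.ext (by simp)
      map_mul' := fun r s => Subtype.ext (map_mul _ _ _) }
  let θ : H →* MulAut R' := MonoidHom.mk' act fun h k => MulEquiv.ext fun r => Subtype.ext (by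
    simp [act, MulAut.mul_apply])
  have hθ : ∀ (h : H) (r : R'), ((θ h r : R') : G) = φ (h : A) r := fun _ _ => rfl
  haveI : Group.IsSolvable R' := Group.isSolvable_of_isSolvable_injective (inclusion_injective inf_le_left)
  haveI : Finite (R' ⋊[θ] H) := Finite.of_equiv _ SemidirectProduct.equivProd.symm
  haveI : Group.IsSolvable (R' ⋊[θ] H) :=
    Group.isSolvable_of_ker_le_range (SemidirectProduct.inl : R' →* R' ⋊[θ] H)
      SemidirectProduct.rightHom (SemidirectProduct.range_inl_eq_ker_rightHom (φ := θ)).ge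
  have hcmem : ∀ h : H, g'⁻¹ * φ (h : A) g' ∈ R' := fun h =>
    ⟨hgA _, C.mul_mem (C.inv_mem fun k hk => hgK k hk) (hC _ _ fun k hk => hgK k hk)⟩
  let tw : H →* R' ⋊[θ] H := MonoidHom.mk' (fun h => ⟨⟨_, hcmem h⟩, h⟩) fun h k => by
    refine SemidirectProduct.ext (Subtype.ext ?_) rfl
    show g'⁻¹ * φ ((h * k : H) : A) g' = _
    rw [SemidirectProduct.mul_left, coe_mul, coe_mul, hθ, map_mul, MulAut.mul_apply, map_mul, map_inv]
    group
  set H0 := (SemidirectProduct.inr : H →* R' ⋊[θ] H).range with hH0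
  set H1 := tw.range with hH1
  haveI : Group.IsNilpotent H0 :=
    Group.nilpotent_of_surjective (SemidirectProduct.inr : H →* R' ⋊[θ] H).rangeRestrict
      (MonoidHom.rangeRestrict_surjective _)
  haveI : Group.IsNilpotent H1 := Group.nilpotent_of_surjective tw.rangeRestrict
    (MonoidHom.rangeRestrict_surjective _)
  have hfix : ∀ x : G, (∀ k ∈ K, φ k x = x) → (∀ h : H, φ (h : A) x = x) → x = 1 := fun x h1 h2 => by
    refine hfpf x fun a => ?_
    have hle : K ⊔ H ≤ (MulAction.stabilizer (MulAut G) x).comap φ :=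
      sup_le (fun k hk => h1 k hk) (fun h hh => h2 ⟨h, hh⟩)
    exact hle (hsup ▸ mem_top a)
  have hnorm : ∀ r : R', (∀ x ∈ H0, SemidirectProduct.inl r * x * (SemidirectProduct.inl r)⁻¹ ∈ H0) →
      r = 1 := by
    intro r hr
    refine Subtype.ext (hfix _ (fun k hk => r.2.2 k hk) fun h => ?_)
    obtain ⟨k, hk⟩ := hr _ ⟨h, rfl⟩
    have e : (SemidirectProduct.inl r * SemidirectProduct.inr h * (SemidirectProduct.inl r)⁻¹ :
        R' ⋊[θ] H).left = r * θ h r⁻¹ := by
      simp [SemidirectProduct.mul_left, SemidirectProduct.inv_left]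
    rw [← hk, SemidirectProduct.left_inr, map_inv, eq_comm, mul_inv_eq_one] at e
    exact (congrArg Subtype.val e).symm
  have hN0 : normalizer (H0 : Set (R' ⋊[θ] H)) = H0 := by
    refine le_antisymm (fun x hx => ?_) le_normalizer
    rw [← SemidirectProduct.inl_left_mul_inr_right x] at hx ⊢
    have hl : SemidirectProduct.inl x.left ∈ normalizer (H0 : Set (R' ⋊[θ] H)) := by
      have := mul_mem hx (inv_mem (le_normalizer (H := H0) ⟨x.right, rfl⟩))
      rwa [mul_inv_cancel_right] at this
    rw [hnorm x.left fun y hy => (mem_normalizer_iff.1 hl y).1 hy, map_one, one_mul]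
    exact ⟨_, rfl⟩
  have hN1 : normalizer (H1 : Set (R' ⋊[θ] H)) = H1 := by
    refine le_antisymm (fun x hx => ?_) le_normalizer
    have hy : x * (tw x.right)⁻¹ ∈ normalizer (H1 : Set (R' ⋊[θ] H)) :=
      mul_mem hx (inv_mem (le_normalizer ⟨x.right, rfl⟩))
    obtain ⟨r, hr⟩ : x * (tw x.right)⁻¹ ∈ (SemidirectProduct.inl : R' →* R' ⋊[θ] H).range := by
      rw [SemidirectProduct.range_inl_eq_ker_rightHom, MonoidHom.mem_ker]
      simp [tw]
    have hr1 : r = 1 := by
      have hgr : g' * (r : G) * g'⁻¹ = 1 := by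
        refine hfix _ (fun k hk => ?_) fun h => ?_
        · rw [map_mul, map_mul, map_inv, hgK k hk, r.2.2 k hk]
        · obtain ⟨k, hk⟩ := (mem_normalizer_iff.1 hy (tw h)).1 ⟨h, rfl⟩
          rw [← hr] at hk
          have hkk := congrArg SemidirectProduct.right hk
          simp [tw] at hkk
          subst hkk
          have e := congrArg (fun z : R' ⋊[θ] H => ((z.left : R') : G)) hk
          simp [tw, SemidirectProduct.mul_left, SemidirectProduct.inv_left, hθ] at e
          rw [map_mul, map_mul, map_inv]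
          have e2 := congrArg (fun z => g' * z * φ (k : A) r * (φ (k : A) g')⁻¹) e
          simpa [mul_assoc] using e2
      exact Subtype.ext (conj_eq_one_iff.1 hgr)
    rw [hr1, map_one, eq_comm, mul_inv_eq_one] at hr
    exact ⟨x.right, hr.symm⟩
  obtain ⟨s, hs'⟩ := Core.Carter.carter_conj H0 H1 hN0 hN1
  have hgr : g' * (s.left : G) = 1 := by
    refine hfix _ (fun k hk => by rw [map_mul, hgK k hk, s.left.2.2 k hk]) fun h => ?_
    have hmem : s * SemidirectProduct.inr (s.right⁻¹ * h * s.right) * s⁻¹ ∈ H1 := by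
      rw [← hs']
      exact ⟨_, ⟨_, rfl⟩, rfl⟩
    obtain ⟨k, hk⟩ := hmem
    have e0 : s * SemidirectProduct.inr (s.right⁻¹ * h * s.right) * s⁻¹ =
        SemidirectProduct.inl s.left * SemidirectProduct.inr h * (SemidirectProduct.inl s.left)⁻¹ := by
      rw [← show s * (SemidirectProduct.inr s.right)⁻¹ = SemidirectProduct.inl s.left from
        mul_inv_eq_iff_eq_mul.2 (SemidirectProduct.inl_left_mul_inr_right s).symm]
      simp [mul_assoc]
    rw [e0] at hk
    have hkk := congrArg SemidirectProduct.right hk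
    simp [tw] at hkk
    subst hkk
    have e := congrArg (fun z : R' ⋊[θ] H => ((z.left : R') : G)) hk
    simp [tw, SemidirectProduct.mul_left, SemidirectProduct.inv_left, hθ] at e
    rw [map_mul]
    have e2 := congrArg (fun z => g' * z * φ (k : A) s.left) e
    simpa [mul_assoc] using e2
  rw [eq_inv_of_mul_eq_one_left hgr]
  exact inv_mem s.left.2.1

end CfsgLib.SThreeFree
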