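import Cfsg.Agent.Lib.SThreeFree.Comps
import Cfsg.Agent.Lib.Perm.ElemCentRecog
import Mathlib.FieldTheory.Finite.GaloisField

/-!
Owner: helper6. The product decomposition of the groups of `Red`.
-/

set_option autoImplicit false
set_option linter.style.haveILetI false

namespace CfsgLib.SThreeFree

open Subgroup
open scoped commutatorElement

universe u

variable {Q : Type u} [Group Q] [Finite Q]

theorem commute_of_components {K L : Subgroup Q} (hK : Cfsg.IsComponent K) (hL : Cfsg.IsComponent L)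
    (hne : K ≠ L) {a b : Q} (ha : a ∈ K) (hb : b ∈ L) : a * b = b * a :=
  commutatorElement_eq_one_iff_mul_comm.1 (mem_bot.1
    ((Components.components_commute hK hL hne).le (commutator_mem_commutator ha hb)))

theorem two_pow_of_orderOf {g : Q} (hg : ∃ k : ℕ, orderOf g = 2 ^ k) : ∃ k : ℕ, g ^ 2 ^ k = 1 := by
  obtain ⟨k, hk⟩ := hg
  exact ⟨k, by rw [← hk, pow_orderOf_eq_one]⟩

variable (h : Red Q)
include h

theorem Red.card_three_dvd {K : Subgroup Q} (hK : IsOddThree K) : 3 ∣ Nat.card K := by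
  obtain ⟨F, iF, iT, n, hn, hF, ⟨e⟩⟩ := hK
  have hc := CfsgLib.Classical.Two.card_PSL_two (F := F)
  rw [Nat.card_congr e.toEquiv]
  have h3 : 3 ∣ Fintype.card F := hF ▸ dvd_pow_self 3 (by omega)
  have hd : 3 ∣ Nat.gcd 2 (Fintype.card F - 1) * Nat.card (Matrix.ProjectiveSpecialLinearGroup (Fin 2) F) :=
    hc ▸ h3.mul_right _
  refine (Nat.Coprime.dvd_of_dvd_mul_left ?_ hd)
  exact (show Nat.Coprime 3 2 by norm_num).coprime_dvd_right (Nat.gcd_dvd_left _ _)

/-- The 2-elements normalise every component. -/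
theorem Red.normalizes (hC : Classification.{u}) {K : Subgroup Q} (hK : Cfsg.IsComponent K) {t : Q}
    (ht : ∃ k : ℕ, orderOf t = 2 ^ k) : t ∈ normalizer (K : Set Q) := by
  classical
  by_contra htN
  obtain ⟨k, hk⟩ := two_pow_of_orderOf ht
  have hex : ∃ m, t ^ 2 ^ m ∈ normalizer (K : Set Q) := ⟨k, hk ▸ one_mem _⟩
  obtain ⟨m, hm⟩ : ∃ m, Nat.find hex = m + 1 := by
    refine Nat.exists_eq_succ_of_ne_zero fun h0 => htN ?_
    simpa [h0] using Nat.find_spec hex
  set t1 := t ^ 2 ^ m with ht1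
  have h1 : t1 ∉ normalizer (K : Set Q) := Nat.find_min hex (by omega)
  have h2 : t1 ^ 2 ∈ normalizer (K : Set Q) := by
    rw [ht1, ← pow_mul, ← pow_succ, ← hm]; exact Nat.find_spec hex
  have hs : ∃ j : ℕ, (t1 ^ 2) ^ 2 ^ j = 1 := ⟨k, by
    rw [ht1, ← pow_mul, ← pow_mul, show 2 ^ m * (2 * 2 ^ k) = 2 ^ k * (2 ^ m * 2) by ring, pow_mul, hk, one_pow]⟩
  obtain ⟨l, hl, hact⟩ := exists_inner h.free (h.component hC hK).1 hs h2
  set K' := K.map (MulAut.conj t1).toMonoidHom with hK'
  have hKc' : Cfsg.IsComponent K' := Components.isComponent_map_equiv (MulAut.conj t1) hK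
  have hne : K ≠ K' := fun e => h1 (mem_normalizer_iff_map_conj_eq.2 e.symm)
  have hmem : ∀ x ∈ K, t1 * x * t1⁻¹ ∈ K' := fun x hx => ⟨x, hx, rfl⟩
  obtain ⟨⟨u, huK⟩, huo⟩ := exists_prime_orderOf_dvd_card' (hp := ⟨Nat.prime_three⟩) 3
    (h.card_three_dvd (h.component hC hK).1)
  rw [orderOf_mk] at huo
  obtain ⟨g, hg⟩ : ∃ g, g = l⁻¹ * t1 := ⟨_, rfl⟩
  obtain ⟨v, hv⟩ : ∃ v, v = g * u * g⁻¹ := ⟨_, rfl⟩
  have hv' : v = t1 * u * t1⁻¹ := by
    rw [hv, hg, show l⁻¹ * t1 * u * (l⁻¹ * t1)⁻¹ = l⁻¹ * (t1 * u * t1⁻¹) * l by group,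
      mul_assoc, ← commute_of_components hK hKc' hne hl (hmem u huK), inv_mul_cancel_left]
  have hvK : v ∈ K' := hv' ▸ hmem u huK
  have hgv : g * v * g⁻¹ = u := by
    rw [hv', hg, show l⁻¹ * t1 * (t1 * u * t1⁻¹) * (l⁻¹ * t1)⁻¹ = l⁻¹ * (t1 * t1 * u * (t1 * t1)⁻¹) * l by group,
      ← pow_two, hact u huK]
    group
  have huv : u * v = v * u := commute_of_components hK hKc' hne huK hvK
  have huv3 : (u * v⁻¹) ^ 3 = 1 := by
    rw [(Commute.inv_right huv).mul_pow, inv_pow, show v ^ 3 = g * u ^ 3 * g⁻¹ by rw [hv, conj_pow],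
      orderOf_dvd_iff_pow_eq_one.1 (dvd_of_eq huo)]
    group
  have huv1 : u * v⁻¹ ≠ 1 := fun e => by
    have huK' : u ∈ K' := (mul_inv_eq_one.1 e) ▸ hvK
    have hu : (⟨u, huK⟩ : K) ∈ center K := mem_center_iff.2 fun y =>
      Subtype.ext (commute_of_components hK hKc' hne y.2 huK')
    rw [(h.component hC hK).2, mem_bot] at hu
    rw [show u = 1 from congrArg Subtype.val hu, orderOf_one] at huo
    omega
  refine h.free (involves_three_iff.2 ⟨u * v⁻¹,
    haveI : Fact (Nat.Prime 3) := ⟨Nat.prime_three⟩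
    orderOf_eq_prime huv3 huv1, isConj_iff.2 ⟨g, ?_⟩⟩)
  rw [mul_inv_rev, inv_inv, show g * (u * v⁻¹) * g⁻¹ = (g * u * g⁻¹) * (g * v * g⁻¹)⁻¹ by group, hgv, ← hv]

/-- A 2-element acts on finitely many components like an element of their product. -/
theorem Red.exists_product (hC : Classification.{u}) {t : Q} (ht : ∃ k : ℕ, orderOf t = 2 ^ k)
    (T : Finset (Subgroup Q)) (hT : ∀ K ∈ T, Cfsg.IsComponent K) :
    ∃ e ∈ T.sup id, ∀ K ∈ T, ∀ x ∈ K, t * x * t⁻¹ = e * x * e⁻¹ := by
  classical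
  induction T using Finset.induction with
  | empty => exact ⟨1, one_mem _, by simp⟩
  | @insert K T hKT ih =>
    obtain ⟨e, he, hact⟩ := ih fun L hL => hT L (Finset.mem_insert_of_mem hL)
    have hK := hT K (Finset.mem_insert_self K T)
    obtain ⟨l, hl, hlact⟩ := exists_inner h.free (h.component hC hK).1 (two_pow_of_orderOf ht)
      (h.normalizes hC hK ht)
    have hcT : T.sup id ≤ centralizer (K : Set Q) := Finset.sup_le fun L hL x hx =>
      mem_centralizer_iff.2 fun y hy => commute_of_components hK (hT L (Finset.mem_insert_of_mem hL))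
        (fun e => hKT (e ▸ hL)) hy hx
    have hcl : ∀ L ∈ T, ∀ x ∈ L, l * x = x * l := fun L hL x hx =>
      commute_of_components hK (hT L (Finset.mem_insert_of_mem hL)) (fun e => hKT (e ▸ hL)) hl hx
    rw [Finset.sup_insert]
    refine ⟨e * l, mul_mem (mem_sup_right he) (mem_sup_left hl), fun L hL x hx => ?_⟩
    rcases Finset.mem_insert.1 hL with rfl | hL
    · rw [hlact x hx, show e * l * x * (e * l)⁻¹ = e * (l * x * l⁻¹) * e⁻¹ by group]
      have := mem_centralizer_iff.1 (hcT he) (l * x * l⁻¹) (mul_mem (mul_mem hl hx) (inv_mem hl))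
      rw [← this, mul_inv_cancel_right]
    · rw [hact L hL x hx, show e * l * x * (e * l)⁻¹ = e * (l * x * l⁻¹) * e⁻¹ by group,
        hcl L hL x hx, mul_inv_cancel_right]

/-- The components generate. -/
theorem Red.layer_eq_top (hC : Classification.{u}) : Cfsg.layer Q = ⊤ := by
  classical
  haveI : Fact (Nat.Prime 3) := ⟨Nat.prime_three⟩
  set E := Cfsg.layer Q with hE
  haveI : E.Normal := Components.layer_normal
  set T : Finset (Subgroup Q) := (Set.toFinite {K : Subgroup Q | Cfsg.IsComponent K}).toFinset with hT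
  have hTc : ∀ K ∈ T, Cfsg.IsComponent K := fun K hK => by simpa [hT] using hK
  have hsup : T.sup id ≤ E := Finset.sup_le fun K hK => Components.le_layer (hTc K hK)
  have hgenF : ∀ g : Q, (∃ k : ℕ, orderOf g = 2 ^ k) → g ∈ E ⊔ Cfsg.fittingSubgroup Q := by
    intro g hg
    obtain ⟨e, he, hact⟩ := h.exists_product hC hg T hTc
    have hc : e⁻¹ * g ∈ centralizer (Cfsg.generalizedFittingSubgroup Q : Set Q) := by
      rw [Components.centralizer_gFitting, mem_inf]
      refine ⟨?_, mem_centralizer_iff.2 fun y hy => ((mem_center_iff.1 (h.fitting_le_center hy)) _).symm⟩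
      have hle : E ≤ centralizer ({e⁻¹ * g} : Set Q) :=
        Components.layer_le_iff.2 fun K hK x hx => mem_centralizer_singleton_iff.2 (by
          have h1 := hact K (by simpa [hT] using hK) x hx
          calc x * (e⁻¹ * g) = e⁻¹ * (e * x * e⁻¹) * g := by group
            _ = e⁻¹ * g * x := by rw [← h1]; group)
      exact mem_centralizer_iff.2 fun y hy => mem_centralizer_singleton_iff.1 (hle hy)
    have := mul_mem (mem_sup_left (T := Cfsg.fittingSubgroup Q) (hsup he))
      (Components.centralizer_gFitting_le hc : e⁻¹ * g ∈ E ⊔ Cfsg.fittingSubgroup Q)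
    rwa [mul_inv_cancel_left] at this
  have htop : E ⊔ Cfsg.fittingSubgroup Q = ⊤ := by
    rw [eq_top_iff, ← h.gen, closure_le]
    exact fun g hg => hgenF g hg
  rw [eq_top_iff, ← h.gen, closure_le]
  intro g hg
  obtain ⟨k, hk⟩ := two_pow_of_orderOf hg
  have hp : IsPGroup 3 (Q ⧸ E) := by
    have h1 : Function.Surjective ((QuotientGroup.mk' E).comp (Cfsg.fittingSubgroup Q).subtype) := by
      rw [← MonoidHom.range_eq_top, MonoidHom.range_comp, range_subtype]
      have := congrArg (Subgroup.map (QuotientGroup.mk' E)) htop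
      rwa [Subgroup.map_sup, QuotientGroup.map_mk'_self, bot_sup_eq,
        Subgroup.map_top_of_surjective _ (QuotientGroup.mk'_surjective E)] at this
    refine IsPGroup.of_surjective ?_ _ h1
    rw [Components.fitting_eq_pCore_of_core_bot h.core]
    exact Components.pCore_isPGroup 3
  obtain ⟨j, hj⟩ := hp (g : Q ⧸ E)
  refine (QuotientGroup.eq_one_iff g).1 (orderOf_eq_one_iff.1 ?_)
  refine Nat.Coprime.eq_one_of_dvd ?_ (orderOf_dvd_of_pow_eq_one hj)
  exact Nat.Coprime.coprime_dvd_left (orderOf_dvd_of_pow_eq_one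
    (show (g : Q ⧸ E) ^ 2 ^ k = 1 by rw [← QuotientGroup.mk_pow, hk]; rfl)) (Nat.Coprime.pow k j (by norm_num))

/-- The decomposition. -/
theorem Red.exists_iso (hC : Classification.{u}) :
    ∃ (k : ℕ) (f : Fin k → ℕ), (∀ i, 1 ≤ f i) ∧
      Nonempty (Q ≃* ((i : Fin k) → Matrix.ProjectiveSpecialLinearGroup (Fin 2) (GaloisField 3 (2 * f i + 1)))) := by
  classical
  haveI : Fact (Nat.Prime 3) := ⟨Nat.prime_three⟩
  let C : Type u := {K : Subgroup Q // Cfsg.IsComponent K}
  haveI : Finite C := Subtype.finite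
  obtain ⟨k, ⟨σ⟩⟩ := Finite.exists_equiv_fin C
  let H : Fin k → Subgroup Q := fun i => (σ.symm i).1
  have hH : ∀ i, Cfsg.IsComponent (H i) := fun i => (σ.symm i).2
  have hinj : Function.Injective H := fun i j e => σ.symm.injective (Subtype.ext e)
  have hcomm : Pairwise fun i j : Fin k => ∀ x y : Q, x ∈ H i → y ∈ H j → Commute x y := fun i j hij x y hx hy =>
    commute_of_components (hH i) (hH j) (fun e => hij (hinj e)) hx hy
  have hind : iSupIndep H := by
    intro i
    rw [disjoint_iff_inf_le]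
    rintro x ⟨hx, hx'⟩
    have hle : (⨆ (j) (_ : j ≠ i), H j) ≤ centralizer (H i : Set Q) :=
      iSup₂_le fun j hj y hy => mem_centralizer_iff.2 fun z hz => hcomm (Ne.symm hj) z y hz hy
    have hc : (⟨x, hx⟩ : H i) ∈ center (H i) := mem_center_iff.2 fun y =>
      Subtype.ext (mem_centralizer_iff.1 (hle hx') y y.2)
    rw [(h.component hC (hH i)).2, mem_bot] at hc
    exact mem_bot.2 (congrArg Subtype.val hc)
  have hsurj : Function.Surjective (Subgroup.noncommPiCoprod hcomm) := by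
    rw [← MonoidHom.range_eq_top, Subgroup.noncommPiCoprod_range, eq_top_iff, ← h.layer_eq_top hC,
      Components.layer_le_iff]
    intro K hK
    exact le_iSup_of_le (σ ⟨K, hK⟩) (by simp [H])
  let e1 := MulEquiv.ofBijective (Subgroup.noncommPiCoprod hcomm)
    ⟨Subgroup.injective_noncommPiCoprod_of_iSupIndep hind, hsurj⟩
  have hK : ∀ i, ∃ f : ℕ, 1 ≤ f ∧
      Nonempty (H i ≃* Matrix.ProjectiveSpecialLinearGroup (Fin 2) (GaloisField 3 (2 * f + 1))) := by
    intro i
    obtain ⟨F, iF, iT, n, hn, hF, ⟨e⟩⟩ := (h.component hC (hH i)).1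
    haveI : Fintype (GaloisField 3 (2 * n + 1)) := Fintype.ofFinite _
    have hK : Fintype.card (GaloisField 3 (2 * n + 1)) = 3 ^ (2 * n + 1) := by
      rw [← Nat.card_eq_fintype_card, GaloisField.card 3 _ (by omega)]
    obtain ⟨e'⟩ := Perm.nonempty_psl_congr (FiniteField.ringEquivOfCardEq (hF.trans hK.symm))
    exact ⟨n, hn, ⟨e.trans e'⟩⟩
  choose f hf hfe using hK
  exact ⟨k, f, hf, ⟨e1.symm.trans (MulEquiv.piCongrRight fun i => (hfe i).some)⟩⟩

end CfsgLib.SThreeFree
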