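import Cfsg.Agent.Lib.SThreeFree.FusionGlue
import Cfsg.Agent.Lib.Fusion.FreeSolvable
import Cfsg.Agent.Lib.Fusion.QdFreeSystem
import Cfsg.Agent.Lib.Fusion.SolvableSeries
import Cfsg.Agent.S2759
import Cfsg.Agent.S2761

/-!
Owner: helper6. Qd(p)-free systems are realizable and solvable (S5282).
-/

set_option autoImplicit false
set_option linter.style.haveILetI false

namespace CfsgLib.SThreeFree

open Cfsg Cfsg.FusionSystem CfsgLib.Fusion

universe u

variable {Ω : Type u} [Group Ω] {S : Subgroup Ω} {F : FusionSystem S}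

/-- Isomorphic subgroups have the same sections in their automorphism groups. -/
theorem involves_autGroup_iso {H : Type} [Group H] {P Q : Subgroup Ω} {e : P ≃* Q} (he : IsoIn F e)
    (h : Involves H (F.autGroup P)) : Involves H (F.autGroup Q) :=
  LocalEven.GoldS.involves_congr
    (((MulAut.congr e).subgroupMap (F.autGroup P)).trans (MulEquiv.subgroupCongr he.congr_autGroup)) h

theorem not_involves_of_extends [Finite S] [Fact (Nat.Prime 2)] (hS : IsPGroup 2 S)
    (hF : F.IsSaturated 2) (hfree : F.IsSectionFree 2 (Equiv.Perm (Fin 4))) {Q P : Subgroup Ω}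
    (hQn : F.IsFullyNormalized Q) (hQc : F.IsCentric Q) (hPQ : P ≤ Q)
    (hext : ∀ a ∈ F.autGroup P, ∃ b ∈ F.autGroup Q,
      ∀ z : P, ((b (Subgroup.inclusion hPQ z) : Q) : Ω) = ((a z : P) : Ω)) :
    ¬ Involves (Equiv.Perm (Fin 3)) (F.autGroup P) := by
  have hQS := hQc.1
  set T := normalizerIn S Q with hT
  have hTS : T ≤ S := normalizerIn_le Q
  have := finite_le hTS
  have hQT : Q ≤ T := le_normalizerIn hQS
  have hNsys := normSystem_isNormalizerSystem F Q hQS
  set N := normSystem F Q hQS with hN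
  have hNc : N.IsCentric Q := ⟨hQT, fun R ⟨φ, hφ, hR⟩ => fun z hz =>
    hQc.2 R ⟨φ, normalizerSystem_le hNsys hφ, hR⟩ ⟨hTS hz.1, hz.2⟩⟩
  obtain ⟨L, _, ι, hG⟩ := exists_model_of_normal_centric (hS.to_le hTS)
    (normalizerSystem_saturated hS hF hQn hNsys) (normalizerSystem_isNormal hQS hNsys) hNc
  have hL : ¬ Involves (Equiv.Perm (Fin 4)) L := hfree Q hQn hQc N hNsys L ι hG
  obtain ⟨hfin, ⟨hinj, hiff⟩, -, -⟩ := hG
  have hPT : P ≤ T := hPQ.trans hQT
  set j : P →* L := ι.comp (Subgroup.inclusion hPT) with hj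
  have hjinj : Function.Injective j := hinj.comp (Subgroup.inclusion_injective hPT)
  intro hi
  refine hL (Cfsg.Agent.S2759.result.2 ⟨j.range,
    ((hS.to_le hTS).to_le hPT).of_surjective j.rangeRestrict j.rangeRestrict_surjective, ?_⟩)
  set Nj := Subgroup.normalizer (j.range : Set L) with hNj
  let G₁ : Subgroup (L × MulAut P) := conjPairs j ⊓ (⊤ : Subgroup L).prod (F.autGroup P)
  let f : G₁ →* F.autGroup P :=
    ((MonoidHom.snd L (MulAut P)).comp G₁.subtype).codRestrict _ fun t => t.2.2.2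
  have hmem : ∀ t : G₁, (t : L × MulAut P).1 ∈ Nj := by
    rintro ⟨⟨g, a⟩, hg, -⟩
    refine Subgroup.mem_normalizer_iff.2 fun v => ⟨?_, ?_⟩
    · rintro ⟨z, rfl⟩
      exact ⟨a z, (eq_mul_inv_iff_mul_eq.2 (hg z).symm)⟩
    · rintro ⟨z, hz⟩
      obtain ⟨u, rfl⟩ := a.surjective z
      have h : g * j u = j (a u) * g := hg u
      rw [hz, inv_mul_cancel_right] at h
      exact ⟨u, mul_left_cancel h⟩
  let π : G₁ →* Nj ⧸ (Subgroup.centralizer (j.range : Set L)).subgroupOf Nj :=
    (QuotientGroup.mk' _).comp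
      (((MonoidHom.fst L (MulAut P)).comp G₁.subtype).codRestrict Nj hmem)
  have hker : π.rangeRestrict.ker ≤ f.ker := by
    rintro ⟨⟨g, a⟩, hg, hga'⟩ ht
    rw [MonoidHom.ker_rangeRestrict] at ht
    have hc : g ∈ Subgroup.centralizer (j.range : Set L) := by
      have := (QuotientGroup.eq_one_iff _).1 (MonoidHom.mem_ker.1 ht)
      exact Subgroup.mem_subgroupOf.1 this
    refine MonoidHom.mem_ker.2 (Subtype.ext (MulEquiv.ext fun z => hjinj ?_))
    have h : g * j z = j (a z) * g := hg z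
    rw [← Subgroup.mem_centralizer_iff.1 hc (j z) ⟨z, rfl⟩] at h
    exact (mul_right_cancel h).symm
  refine LocalEven.involves_of_section π.range.subtype π.range.subtype_injective
    (π.rangeRestrict.liftOfSurjective π.rangeRestrict_surjective ⟨f, hker⟩) ?_ hi
  intro a
  obtain ⟨b, hb, hbv⟩ := hext a a.2
  rw [← normalizerSystem_autGroup hQS hNsys] at hb
  obtain ⟨g, hg⟩ := (hiff Q hQT _ fun x => hQT (b x).2).1 ((mem_autGroup_iff hQT).1 hb)
  have hga : (g, (a : MulAut P)) ∈ conjPairs j := by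
    intro z
    have h := hg (Subgroup.inclusion hPQ z)
    rw [eq_mul_inv_iff_mul_eq] at h
    have h2 : (⟨((b (Subgroup.inclusion hPQ z) : Q) : Ω), hQT (b _).2⟩ : T) =
        Subgroup.inclusion hPT ((a : MulAut P) z) := Subtype.ext (hbv z)
    exact h2.subst (motive := fun w => g * j z = ι w * g) h.symm
  exact ⟨π.rangeRestrict ⟨(g, a), hga, trivial, a.2⟩,
    MonoidHom.liftOfRightInverse_comp_apply _ _ _ _ _⟩

/-- Systems without sections `S₄` have no `S₃` in their automorphism groups. -/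
theorem free3_of_sectionFree [Finite S] [Fact (Nat.Prime 2)] (hS : IsPGroup 2 S)
    (hF : F.IsSaturated 2) (hfree : F.IsSectionFree 2 (Equiv.Perm (Fin 4))) : Free3 F := by
  intro P hP hi
  obtain ⟨P', hPP', -, hR', hn'⟩ := IsSaturated.exists_rep hS hF hP
  obtain ⟨e₁, he₁⟩ := isConj_iff.1 hPP'
  have hi' := involves_autGroup_iso he₁ hi
  set P'' := P' ⊔ centralizerIn S P' with hP''
  have hP''S : P'' ≤ S := sup_le hn'.1 (centralizerIn_le P')
  have hfc := IsSaturated.fullyCentralized hS hF hn'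
  have hc'' : F.IsCentric P'' := by
    refine ⟨hP''S, ?_⟩
    rintro R ⟨φ, hφ, rfl⟩
    set R' := img φ P' with hR'def
    have hC : img φ (centralizerIn S P') = centralizerIn S R' := by
      have := finite_le (centralizerIn_le (S := S) R')
      refine Subgroup.eq_of_le_of_card_ge ?_ ?_
      · rintro _ ⟨c, hc, rfl⟩
        refine mem_centralizerIn.2 ⟨hom_apply_mem hφ c, ?_⟩
        rintro _ ⟨w, hw, rfl⟩
        rw [← map_mul, ← map_mul]
        exact congrArg φ (Subtype.ext ((mem_centralizerIn.1 hc).2 _ hw))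
      · rw [card_img (F.injective_of_mem hφ) le_sup_right]
        exact hfc.2 R' (isConj_img hφ le_sup_left)
    exact ((centralizerIn_antitone (img_le_range φ P')).trans hC.ge).trans (img_le_range φ _)
  obtain ⟨Q, hQ, hQn⟩ := exists_fullyNormalized (F := F) hP''S
  obtain ⟨e₃, he₃⟩ := isConj_iff.1 hQ
  have hP'P'' : P' ≤ P'' := le_sup_left
  set g := (isoHom e₃).comp (Subgroup.inclusion hP'P'') with hg
  have hgF : g ∈ F.Hom P' := restrict_mem he₃.mem hP'P''
  obtain ⟨e₂, he₂, he₂v⟩ := exists_iso hgF (rfl : g.range = g.range)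
  have hi'' := involves_autGroup_iso he₂ hi'
  have hPQ : g.range ≤ Q := by rintro _ ⟨z, rfl⟩; exact (e₃ _).2
  refine not_involves_of_extends hS hF hfree hQn (isCentric_of_isConj hc'' hQ) hPQ (fun a ha => ?_) hi''
  -- pull back to `P'`, extend, push forward
  set a₀ : P' ≃* P' := (e₂.trans a).trans e₂.symm with ha₀
  have ha₀F : IsoIn F a₀ :=
    (he₂.trans ((mem_autGroup_iff_isoIn (hom_range_le hgF)).1 ha)).trans he₂.symm
  obtain ⟨ψ, hψ, hψv⟩ := exists_extension hR' ha₀F hP'P'' (sup_le_extender ha₀F)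
  have hψP : ∀ z, ψ z ∈ P'' := apply_mem_of_sup
    (fun z => by rw [hψv z]; exact Subgroup.mem_sup_left (a₀ z).2)
    fun c => Subgroup.mem_sup_right (extension_mem_centralizerIn hψ hP'P'' hψv _ c.2)
  have := finite_le hP''S
  have hψr : ψ.range = P'' := Subgroup.eq_of_le_of_card_ge
    (by rintro _ ⟨z, rfl⟩; exact hψP z)
    (le_of_eq (Nat.card_congr (MonoidHom.ofInjective (F.injective_of_mem hψ)).toEquiv))
  obtain ⟨b₀, hb₀, hb₀v⟩ := exists_iso hψ hψr
  refine ⟨MulAut.congr e₃ b₀, he₃.congr_autGroup ▸ Subgroup.mem_map_of_mem _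
    ((mem_autGroup_iff_isoIn hP''S).2 hb₀), fun z => ?_⟩
  obtain ⟨w, rfl⟩ := e₂.surjective z
  have h1 : Subgroup.inclusion hPQ (e₂ w) = e₃ (Subgroup.inclusion hP'P'' w) :=
    Subtype.ext (he₂v w)
  have h2 : b₀ (Subgroup.inclusion hP'P'' w) = Subgroup.inclusion hP'P'' (a₀ w) :=
    Subtype.ext ((hb₀v _).trans (hψv w))
  have h3 : a (e₂ w) = e₂ (a₀ w) := (e₂.apply_symm_apply _).symm
  rw [h1, h3, show MulAut.congr e₃ b₀ (e₃ (Subgroup.inclusion hP'P'' w)) =
    e₃ (b₀ (Subgroup.inclusion hP'P'' w)) by simp [MulAut.congr], h2]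
  exact (he₂v _).symm

/-- Free systems over 2-groups are solvable. -/
theorem isSolvable_of_free3 [Finite S] [Fact (Nat.Prime 2)] (hC : Classification.{u})
    (hS : IsPGroup 2 S) (hF : F.IsSaturated 2) (hfree : Free3 F) : F.IsSolvableSystem := by
  intro R hR hne hn E hE h0
  have hT : IsPGroup 2 (⊤ : Subgroup (S ⧸ R.subgroupOf S)) := (hS.to_quotient _).to_subgroup ⊤
  obtain ⟨-, hcen⟩ := exists_normal_centric_core
    (constrained hC _ _ E hT (factor_saturated hS hF hR hE) (hfree.factor hE))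
  refine hne (le_antisymm hR.1 fun s hs => ?_)
  have h1 : (QuotientGroup.mk' (R.subgroupOf S) ⟨s, hs⟩) ∈ E.core := hcen.2 _ (isConj_refl core_le)
    (mem_centralizerIn.2 ⟨Subgroup.mem_top _, fun y hy => by
      rw [h0, Subgroup.mem_bot] at hy
      rw [hy, one_mul, mul_one]⟩)
  rw [h0, Subgroup.mem_bot] at h1
  exact (hE.2.1 ⟨s, hs⟩).1 h1

/-- Qd(p)-free systems are realizable and solvable. -/
theorem qdFree_realizable_solvable (hC : Classification.{u}) {Ω : Type u} [Group Ω] {S : Subgroup Ω}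
    [Finite S] (p : ℕ) [Fact p.Prime] (hS : IsPGroup p S) (F : FusionSystem S)
    (hF : F.IsSaturated p) (hfree : F.IsSectionFree p ↥(Cfsg.qd p)) :
    F.IsRealizable p ∧ F.IsSolvableSystem := by
  have hsolv : F.IsSolvableSystem := by
    rcases eq_or_ne p 2 with rfl | hp
    · haveI : Fact (Nat.Prime 2) := ⟨Nat.prime_two⟩
      obtain ⟨e⟩ := Cfsg.Agent.S2761.result
      refine isSolvable_of_free3 hC hS hF (free3_of_sectionFree hS hF ?_)
      intro Q hn hc N hN L _ ι hG hi
      refine hfree Q hn hc N hN L ι hG ?_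
      obtain ⟨K, R, hnR, ⟨e'⟩⟩ := hi
      exact ⟨K, R, hnR, ⟨e'.trans e.symm⟩⟩
    · exact isSolvable_of_free hp hS hF (freeOf_qd_of_sectionFree hS hF hfree)
  refine ⟨?_, hsolv⟩
  obtain ⟨-, Q, hQn, hQc⟩ := isConstrained_of_solvable hS hF hsolv
  obtain ⟨L, hLg, ι, hG⟩ := exists_model_of_normal_centric hS hF hQn hQc
  exact ⟨L, hLg, hG.1, ι, hG.2.1, hG.2.2.1⟩

end CfsgLib.SThreeFree
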