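import Cfsg.Agent.Lib.SThreeFree.Product
import Cfsg.Agent.Lib.Core.Cores

/-!
Owner: helper6. The row S4976, given the classification of simple groups not involving the symmetric group
of degree three.
-/

set_option autoImplicit false
set_option linter.style.haveILetI false

namespace CfsgLib.SThreeFree

open Subgroup

universe u

/-- S4976, given the classification. -/
theorem no_real_three_iff (hC : Classification.{u}) {G : Type u} [Group G] [Finite G]
    (hgen : Subgroup.closure {g : G | ∃ k : ℕ, orderOf g = 2 ^ k} = ⊤) :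
    (∀ x : G, orderOf x = 3 → ¬ IsConj x x⁻¹) ↔ ∃ (k : ℕ) (f : Fin k → ℕ), (∀ i, 1 ≤ f i) ∧
      Nonempty (G ⧸ Cfsg.pPrimeCore 3 G ≃*
        ((i : Fin k) → Matrix.ProjectiveSpecialLinearGroup (Fin 2) (GaloisField 3 (2 * f i + 1)))) := by
  haveI : Fact (Nat.Prime 3) := ⟨Nat.prime_three⟩
  set q := QuotientGroup.mk' (Cfsg.pPrimeCore 3 G) with hq
  have hqs : Function.Surjective q := QuotientGroup.mk'_surjective _
  constructor
  · intro hreal
    have h3 : ¬ Cfsg.Involves (Equiv.Perm (Fin 3)) G := by
      rw [involves_three_iff]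
      rintro ⟨x, hx, hc⟩
      exact hreal x hx hc
    refine Red.exists_iso ⟨fun hi => h3 (involves_quotient q hqs hi),
      CfsgLib.Core.pPrimeCore_quotient_pPrimeCore 3 G, ?_⟩ hC
    rw [eq_top_iff, ← Subgroup.map_top_of_surjective q hqs, ← hgen, MonoidHom.map_closure, closure_le]
    rintro _ ⟨g, ⟨k, hk⟩, rfl⟩
    obtain ⟨j, -, hj⟩ := (Nat.dvd_prime_pow Nat.prime_two).1 (hk ▸ orderOf_map_dvd q g)
    exact subset_closure ⟨j, hj⟩
  · rintro ⟨k, f, hf, ⟨e⟩⟩ x hx hc
    have hxq : orderOf (q x) = 3 := by
      rcases (Nat.dvd_prime Nat.prime_three).1 (hx ▸ orderOf_map_dvd q x) with h | h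
      · exfalso
        have hd : orderOf x ∣ Nat.card (Cfsg.pPrimeCore 3 G) :=
          (orderOf_mk x ((QuotientGroup.eq_one_iff x).1 (orderOf_eq_one_iff.1 h))).symm.dvd.trans
            (orderOf_dvd_natCard _)
        rw [hx] at hd
        exact Nat.not_coprime_of_dvd_of_dvd (by norm_num) hd dvd_rfl (Components.pPrimeCore_coprime 3)
      · exact h
    have hyc := (e.toMonoidHom.comp q).map_isConj hc
    set y := e (q x) with hy
    have hyo : orderOf y = 3 := (orderOf_injective e.toMonoidHom e.injective (q x)).trans hxq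
    obtain ⟨i, hi⟩ : ∃ i, y i ≠ 1 := by
      by_contra hno
      push Not at hno
      rw [show y = 1 from funext hno, orderOf_one] at hyo
      omega
    let π := Pi.evalMonoidHom (fun i : Fin k =>
      Matrix.ProjectiveSpecialLinearGroup (Fin 2) (GaloisField 3 (2 * f i + 1))) i
    have hπ : orderOf (π y) = 3 := by
      rcases (Nat.dvd_prime Nat.prime_three).1 (hyo ▸ orderOf_map_dvd π y) with h | h
      · exact absurd (orderOf_eq_one_iff.1 h) hi
      · exact h
    haveI : Fintype (GaloisField 3 (2 * f i + 1)) := Fintype.ofFinite _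
    have hK : Fintype.card (GaloisField 3 (2 * f i + 1)) = 3 ^ (2 * f i + 1) := by
      rw [← Nat.card_eq_fintype_card, GaloisField.card 3 _ (by omega)]
    refine LocalEven.GoldS.not_involves_three_psl hK (involves_three_of_isConj hπ ?_)
    have h2 := π.map_isConj hyc
    simpa [hy] using h2

end CfsgLib.SThreeFree
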