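import Cfsg.Agent.Lib.SThreeFree.CommonFixed
import Cfsg.Agent.Lib.SThreeFree.LiftFixed
import Cfsg.Agent.Lib.SzSq.Main
import Cfsg.Agent.Lib.Components.Char
import Mathlib.Data.Finset.NoncommProd

/-!
Owner: helper6. The row S4041, given the classification of simple groups not involving the symmetric group
of degree three.
-/

set_option autoImplicit false
set_option linter.style.haveILetI false

namespace CfsgLib.SThreeFree

open Subgroup
open CfsgLib.Components
open scoped Pointwise

universe u v

variable {G : Type u} [Group G] [Finite G] {A : Type v} [Group A] [Finite A]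

/-- A point of a component fixed by its stabiliser gives a fixed point of all the operators. -/
theorem exists_fixed_of_stabiliser (φ : A →* MulAut G) {L : Subgroup G} (hL : Cfsg.IsComponent L)
    (hz : center L = ⊥) {x : G} (hx : x ∈ L) (hx1 : x ≠ 1)
    (hfix : ∀ a, φ a • L = L → φ a x = x) : ∃ y : G, y ≠ 1 ∧ ∀ a, φ a y = y := by
  classical
  haveI := Fintype.ofFinite A
  let S : Finset G := Finset.univ.image fun a => φ a x
  have hmem : ∀ s ∈ S, ∃ a, φ a x = s := fun s hs => by simpa [S] using hs
  have hcomp : ∀ a, Cfsg.IsComponent (φ a • L) := fun a => isComponent_map_equiv (φ a) hL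
  have key : ∀ a b, φ a x ≠ φ b x → ∀ y ∈ φ b • L, φ a x * y = y * φ a x := by
    intro a b hab y hy
    refine SzSq.commute_of_ne (hcomp a) (hcomp b) (fun e => hab ?_) (smul_mem_pointwise_smul x (φ a) L hx) hy
    have h1 : φ (a⁻¹ * b) • L = L := by
      rw [map_mul, mul_smul, ← e, ← mul_smul, ← map_mul, inv_mul_cancel, map_one, one_smul]
    have h2 := congrArg (φ a) (hfix _ h1)
    rw [← MulAut.mul_apply, ← map_mul, mul_inv_cancel_left] at h2
    exact h2.symm
  have hcomm : (S : Set G).Pairwise (Function.onFun Commute id) := by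
    intro s hs t ht hst
    obtain ⟨a, rfl⟩ := hmem s hs
    obtain ⟨b, rfl⟩ := hmem t ht
    exact key a b hst _ (smul_mem_pointwise_smul x (φ b) L hx)
  have hxS : x ∈ S := Finset.mem_image.2 ⟨1, Finset.mem_univ _, by rw [map_one]; rfl⟩
  refine ⟨S.noncommProd id hcomm, fun h1 => hx1 ?_, fun c => ?_⟩
  · have hp := Finset.mul_noncommProd_erase S hxS id hcomm
    rw [h1, id, mul_eq_one_iff_eq_inv] at hp
    have hc : x ∈ centralizer (L : Set G) := by
      rw [hp]
      refine inv_mem (Subgroup.noncommProd_mem _ _ fun s hs => ?_)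
      obtain ⟨hsx, hs⟩ := Finset.mem_erase.1 hs
      obtain ⟨a, rfl⟩ := hmem s hs
      refine mem_centralizer_iff.2 fun y hy => ?_
      have hy' : y ∈ φ (1 : A) • L := by rwa [map_one, one_smul]
      exact (key a 1 (by rwa [map_one, MulAut.one_apply]) y hy').symm
    have hm : (⟨x, hx⟩ : L) ∈ center L :=
      mem_center_iff.2 fun y => Subtype.ext (mem_centralizer_iff.1 hc y y.2)
    rw [hz, mem_bot] at hm
    exact congrArg Subtype.val hm
  · rw [Finset.map_noncommProd]
    have himg : S.image (φ c) = S := by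
      refine Finset.eq_of_subset_of_card_le (fun s hs => ?_) (by
        rw [Finset.card_image_of_injective _ (φ c).injective])
      obtain ⟨t, ht, rfl⟩ := Finset.mem_image.1 hs
      obtain ⟨a, rfl⟩ := hmem t ht
      exact Finset.mem_image.2 ⟨c * a, Finset.mem_univ _, by rw [map_mul]; rfl⟩
    unfold Finset.noncommProd
    congr 1
    show S.1.map (φ c) = S.1.map id
    rw [Multiset.map_id, ← Finset.image_val_of_injOn (φ c).injective.injOn, himg]

/-- The action induced on the quotient by a characteristic subgroup. -/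
theorem exists_quotient_action (φ : A →* MulAut G) (R : Subgroup G) [R.Characteristic] :
    ∃ ψ : A →* MulAut (G ⧸ R), ∀ (a : A) (g : G), ψ a (g : G ⧸ R) = ((φ a g : G) : G ⧸ R) := by
  refine ⟨MonoidHom.mk' (fun a => QuotientGroup.congr R R (φ a)
    (Subgroup.characteristic_iff_map_eq.1 inferInstance (φ a))) fun a b => MulEquiv.ext fun y => ?_,
    fun a g => rfl⟩
  obtain ⟨g, rfl⟩ := QuotientGroup.mk'_surjective R y
  show ((φ (a * b) g : G) : G ⧸ R) = ((φ a (φ b g) : G) : G ⧸ R)
  rw [map_mul, MulAut.mul_apply]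

/-- Fixed-point-free operators, nilpotent modulo a normal subgroup of coprime order, on a group with
trivial solvable radical not involving the symmetric group of degree three: the group is trivial. -/
theorem subsingleton_of_radical_bot (hC : Classification.{u}) (φ : A →* MulAut G)
    (hfpf : ∀ g : G, (∀ a, φ a g = g) → g = 1) (K : Subgroup A) [K.Normal]
    (hnil : Group.IsNilpotent (A ⧸ K)) (hcop : (Nat.card K).Coprime (Nat.card G))
    (h3 : ¬ Cfsg.Involves (Equiv.Perm (Fin 3)) G) (hR : solRadical G = ⊥) : Subsingleton G := by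
  by_contra hsub
  haveI : Nontrivial G := not_subsingleton_iff_nontrivial.1 hsub
  obtain ⟨L, hL⟩ := SzSq.exists_component hR
  haveI : Nontrivial L := IsQuasisimple.nontrivial hL.2
  have hz : center L = ⊥ := by
    refine Subgroup.map_injective L.subtype_injective ?_
    rw [Subgroup.map_bot, ← le_bot_iff, ← hR]
    refine subnormal_solvable_le_solRadical
      ((inferInstance : (center L).Normal).isSubnormal.trans' hL.1) ?_
    haveI : Group.IsSolvable (center L) := Group.isSolvable_of_comm fun a b =>
      Subtype.ext (mem_center_iff.mp b.2 a)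
    exact Group.isSolvable_of_surjective
      (f := ((center L).equivMapOfInjective _ L.subtype_injective).toMonoidHom) (MulEquiv.surjective _)
  haveI : IsSimpleGroup L := ⟨fun N hN => by
    rcases IsQuasisimple.normal_le_center_or_eq_top hL.2 hN with h | h
    · exact Or.inl (le_bot_iff.mp (hz ▸ h))
    · exact Or.inr h⟩
  have hna := IsQuasisimple.not_isMulCommutative hL.2
  have hsmall := hasSmallAut_of_family hna (hC L inferInstance hna fun h => h3 (involves_subgroup L h))
  set B : Subgroup A := (MulAction.stabilizer (MulAut G) L).comap φ with hB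
  have hBm : ∀ b : B, ∀ x ∈ L, φ (b : A) x ∈ L := fun b x hx => by
    have h := smul_mem_pointwise_smul x (φ (b : A)) L hx
    rwa [show φ (b : A) • L = L from b.2] at h
  let act : B → MulAut L := fun b =>
    { toFun := fun x => ⟨φ (b : A) x, hBm b x x.2⟩
      invFun := fun x => ⟨φ (b : A)⁻¹ x, hBm b⁻¹ x x.2⟩
      left_inv := fun r => Subtype.ext (by simp)
      right_inv := fun r => Subtype.ext (by simp)
      map_mul' := fun r s => Subtype.ext (map_mul _ _ _) }
  let ψ : B →* MulAut L := MonoidHom.mk' act fun b c => MulEquiv.ext fun r => Subtype.ext (by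
    simp [act, MulAut.mul_apply])
  have hcopB : (Nat.card (K.subgroupOf B)).Coprime (Nat.card L) := by
    refine Nat.Coprime.coprime_dvd_left ?_ (hcop.coprime_dvd_right L.card_subgroup_dvd_card)
    exact Subgroup.card_dvd_of_injective (f := (B.subtype.comp (K.subgroupOf B).subtype).codRestrict K
      fun i => i.2) fun a b h => Subtype.ext (Subtype.ext (Subtype.ext_iff.1 h :))
  have hnilB : Group.IsNilpotent (B ⧸ K.subgroupOf B) := by
    refine Subgroup.isNilpotent_of_ker_le_center (QuotientGroup.map (K.subgroupOf B) K B.subtype fun x hx => hx)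
      (fun y hy => ?_)
    obtain ⟨b, rfl⟩ := QuotientGroup.mk'_surjective _ y
    have hb : b ∈ K.subgroupOf B := mem_subgroupOf.2 ((QuotientGroup.eq_one_iff _).1 hy)
    rw [show QuotientGroup.mk' (K.subgroupOf B) b = 1 from (QuotientGroup.eq_one_iff _).2 hb]
    exact one_mem _
  obtain ⟨x, hx1, hxfix⟩ := exists_common_fixed hz hsmall ψ (K.subgroupOf B) hcopB hnilB
  obtain ⟨y, hy, hyfix⟩ := exists_fixed_of_stabiliser φ hL hz x.2 (fun h => hx1 (Subtype.ext h))
    fun a ha => congrArg Subtype.val (hxfix ⟨a, ha⟩)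
  exact hy (hfpf y hyfix)

/-- A group not involving the symmetric group of degree three with fixed-point-free operators `K ⊔ H`,
`K` normal of coprime order and `H` nilpotent, is solvable. -/
theorem isSolvable_of_fpf (hC : Classification.{u}) (φ : A →* MulAut G)
    (hfpf : ∀ g : G, (∀ a, φ a g = g) → g = 1) (K H : Subgroup A) [K.Normal] [Group.IsNilpotent H]
    (hsup : K ⊔ H = ⊤) (hcop : (Nat.card K).Coprime (Nat.card G))
    (h3 : ¬ Cfsg.Involves (Equiv.Perm (Fin 3)) G) : Group.IsSolvable G := by
  haveI := solRadical_characteristic (G := G)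
  haveI := solRadical_normal (G := G)
  have hs := solRadical_isSolvable (G := G)
  obtain ⟨ψ, hψ⟩ := exists_quotient_action φ (solRadical G)
  have hnil : Group.IsNilpotent (A ⧸ K) := by
    refine Group.nilpotent_of_surjective ((QuotientGroup.mk' K).comp H.subtype) fun y => ?_
    have hle : (QuotientGroup.mk' K).range ≤ ((QuotientGroup.mk' K).comp H.subtype).range := by
      rw [MonoidHom.range_eq_map, ← hsup, Subgroup.map_sup, MonoidHom.range_comp, range_subtype,
        QuotientGroup.map_mk'_self, bot_sup_eq]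
    exact hle (QuotientGroup.mk'_surjective K y)
  have hfq : ∀ q : G ⧸ solRadical G, (∀ a, ψ a q = q) → q = 1 := by
    intro q hq
    obtain ⟨g, rfl⟩ := QuotientGroup.mk'_surjective _ q
    refine (QuotientGroup.eq_one_iff g).2 (mem_of_fixed_coset φ hfpf K H hsup hcop (solRadical G) ?_ hs g ?_)
    · intro a r hr
      rw [← Subgroup.characteristic_iff_map_eq.1 (solRadical_characteristic (G := G)) (φ a)]
      exact ⟨r, hr, rfl⟩
    · intro a
      have h := hq a
      rw [QuotientGroup.mk'_apply, hψ, QuotientGroup.eq] at h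
      have h2 := inv_mem h
      rwa [mul_inv_rev, inv_inv] at h2
  haveI := subsingleton_of_radical_bot hC ψ hfq K hnil
    (hcop.coprime_dvd_right (card_quotient_dvd_card _))
    (fun h => h3 (involves_quotient (QuotientGroup.mk' _) (QuotientGroup.mk'_surjective _) h))
    SzSq.solRadical_quotient
  have htop : solRadical G = ⊤ :=
    eq_top_iff.2 fun g _ => (QuotientGroup.eq_one_iff g).1 (Subsingleton.elim _ _)
  rw [htop] at hs
  exact Group.isSolvable_of_surjective (f := (Subgroup.topEquiv : (⊤ : Subgroup G) ≃* G).toMonoidHom)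
    (MulEquiv.surjective _)

/-- S4041, given the classification. -/
theorem fpf_pi_nilpotent_solvable (hC : Classification.{u}) (φ : A →* MulAut G)
    (hfpf : ∀ g : G, (∀ a : A, φ a g = g) → g = 1)
    (hS3 : ¬ Cfsg.Involves (Equiv.Perm (Fin 3)) G)
    (hHall : ∃ H : Subgroup A, Cfsg.IsPiHall {r : ℕ | r.Prime ∧ r ∣ Nat.card G} H ∧ Group.IsNilpotent H)
    (hcomp : ∃ K : Subgroup A, K.Normal ∧ (∀ r : ℕ, r.Prime → r ∣ Nat.card K → ¬ r ∣ Nat.card G) ∧
      ∀ r : ℕ, r.Prime → r ∣ K.index → r ∣ Nat.card G) :
    Group.IsSolvable G := by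
  obtain ⟨H, ⟨-, hHi⟩, hHn⟩ := hHall
  obtain ⟨K, hKn, hK, hKi⟩ := hcomp
  have hsup : K ⊔ H = ⊤ := by
    rw [← index_eq_one]
    by_contra hne
    obtain ⟨r, hr, hdvd⟩ := Nat.exists_prime_and_dvd hne
    exact hHi r hr ⟨hr, hKi r hr (hdvd.trans (index_dvd_of_le le_sup_left))⟩
      (hdvd.trans (index_dvd_of_le le_sup_right))
  exact isSolvable_of_fpf hC φ hfpf K H hsup (Nat.coprime_of_dvd fun r hr h1 => hK r hr h1) hS3

end CfsgLib.SThreeFree
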