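import Cfsg.Agent.Lib.SThreeFree.Hyps
import Cfsg.Agent.Lib.LocalEven.GoldS.FamSections
import Cfsg.Agent.S0205

/-!
Owner: helper6. Groups not involving the symmetric group of degree three: inheritance.
-/

set_option autoImplicit false

namespace CfsgLib.SThreeFree

open Subgroup
open CfsgLib.LocalEven.GoldS (exists_hom_of_involves involves_congr)

universe u v

variable {G : Type u} [Group G]

/-- A group involved in a subgroup is involved in the group. -/
theorem involves_subgroup {S : Type v} [Group S] (H : Subgroup G) (h : Cfsg.Involves S H) :
    Cfsg.Involves S G := by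
  obtain ⟨K, π, hπ⟩ := exists_hom_of_involves h
  exact Fusion.involves_of_surjective (H.subtype.comp K.subtype)
    (H.subtype_injective.comp K.subtype_injective) π hπ

/-- A group involved in a quotient is involved in the group. -/
theorem involves_quotient {S : Type v} [Group S] {X : Type*} [Group X] (f : G →* X)
    (hf : Function.Surjective f) (h : Cfsg.Involves S X) : Cfsg.Involves S G := by
  obtain ⟨K, π, hπ⟩ := exists_hom_of_involves h
  let g : K.comap f →* K := f.subgroupComap K
  have hg : Function.Surjective g := fun k => by
    obtain ⟨x, hx⟩ := hf (k : X)
    exact ⟨⟨x, show f x ∈ K from hx ▸ k.2⟩, Subtype.ext hx⟩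
  exact Fusion.involves_of_surjective (K.comap f).subtype (K.comap f).subtype_injective (π.comp g)
    (hπ.comp hg)

/-- A group involved in a section is involved in the group. -/
theorem involves_section {S : Type v} [Group S] (H : Subgroup G) (N : Subgroup H) [N.Normal]
    (h : Cfsg.Involves S (H ⧸ N)) : Cfsg.Involves S G :=
  involves_subgroup H (involves_quotient (QuotientGroup.mk' N) (QuotientGroup.mk'_surjective N) h)

/-- The symmetric group of degree four involves the one of degree three. -/
theorem perm_four_involves_three : Cfsg.Involves (Equiv.Perm (Fin 3)) (Equiv.Perm (Fin 4)) :=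
  Fusion.involves_of_surjective (Equiv.Perm.viaEmbeddingHom Fin.castSuccEmb)
    (Equiv.Perm.viaEmbeddingHom_injective _) (MonoidHom.id _) Function.surjective_id

/-- A group without the symmetric group of degree three has none of degree four. -/
theorem not_involves_four (h : ¬ Cfsg.Involves (Equiv.Perm (Fin 3)) G) :
    ¬ Cfsg.Involves (Equiv.Perm (Fin 4)) G := by
  intro h4
  obtain ⟨K, π, hπ⟩ := exists_hom_of_involves h4
  exact h (involves_subgroup K (involves_quotient π hπ perm_four_involves_three))

end CfsgLib.SThreeFree
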